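import Groth.Prelude.Def_EtRam
import Mathlib

/-!
# Amalgamating valuations along an extension of discrete valuation rings
-/

set_option autoImplicit false
set_option linter.style.haveILetI false

universe u

open TensorProduct IsLocalRing

namespace Groth.Agent.EtRam93

theorem flat_of_injective {B C : Type u} [CommRing B] [IsDomain B] [IsPrincipalIdealRing B] [CommRing C]
    [IsDomain C] [Algebra B C] (hinj : Function.Injective (algebraMap B C)) : Module.Flat B C := by
  rw [Module.Flat.flat_iff_torsion_eq_bot_of_isBezout, eq_bot_iff]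
  rintro x ⟨⟨r, hr⟩, hx⟩
  simp only [Submonoid.smul_def, Algebra.smul_def, mul_eq_zero] at hx
  rw [Submodule.mem_bot]
  exact hx.resolve_left fun h => nonZeroDivisors.ne_zero hr (hinj (h.trans (map_zero _).symm))

/-- A valuation subring at a prime on the residue field of a smaller one. -/
theorem exists_valuation_of_le {R : Type u} [CommRing R] (P Q : Ideal R) [P.IsPrime] [Q.IsPrime] (hQP : Q ≤ P) :
    ∃ (M' : Type u) (_ : Field M') (q : R →+* M') (W' : ValuationSubring M'),
      (∀ x, q x = 0 → x ∈ Q) ∧ (∀ x, q x ∈ W') ∧ (∀ x ∈ P, W'.valuation (q x) < 1) ∧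
      ∀ z, ∃ a b, z = q a / q b := by
  let M' := FractionRing (R ⧸ Q)
  let q : R →+* M' := (algebraMap (R ⧸ Q) M').comp (Ideal.Quotient.mk Q)
  have hq : ∀ x, q x = 0 → x ∈ Q := fun x hx =>
    Ideal.Quotient.eq_zero_iff_mem.1 ((IsFractionRing.injective (R ⧸ Q) M') (hx.trans (map_zero _).symm))
  let e : R →+* q.range := q.rangeRestrict
  have hI : P.map e ≠ ⊤ := fun htop => by
    obtain ⟨a, ha, hae⟩ := (Ideal.mem_map_iff_of_surjective e q.rangeRestrict_surjective).1
      ((Ideal.eq_top_iff_one _).1 htop)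
    have h1 : a - 1 ∈ Q := hq _ (by
      rw [map_sub, map_one, sub_eq_zero]; exact congrArg Subtype.val hae)
    exact Ideal.IsPrime.ne_top ‹P.IsPrime› ((Ideal.eq_top_iff_one _).2 (by simpa using sub_mem ha (hQP h1)))
  obtain ⟨W', hW', hm⟩ := Ideal.image_subset_nonunits_valuationSubring _ hI
  refine ⟨M', inferInstance, q, W', hq, fun x => hW' ⟨x, rfl⟩, fun x hx =>
    hm ⟨e x, Ideal.mem_map_of_mem e hx, rfl⟩, fun z => ?_⟩
  obtain ⟨a, b, -, rfl⟩ := IsFractionRing.div_surjective (A := R ⧸ Q) z
  obtain ⟨a, rfl⟩ := Ideal.Quotient.mk_surjective a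
  obtain ⟨b, rfl⟩ := Ideal.Quotient.mk_surjective b
  exact ⟨a, b, rfl⟩

/-- A valuation subring over a DVR `B` and an extension `B → C` of DVRs have a common extension. -/
theorem exists_amalgam {B C L M₀ M : Type u} [CommRing B] [IsDomain B] [IsDiscreteValuationRing B]
    [CommRing C] [IsDomain C] [IsDiscreteValuationRing C] [Algebra B C] [IsLocalHom (algebraMap B C)]
    (hinj : Function.Injective (algebraMap B C))
    [Field L] [Algebra B L] [IsFractionRing B L] [Field M₀] [Algebra C M₀] [IsFractionRing C M₀]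
    [Algebra L M₀] [Algebra B M₀] [IsScalarTower B C M₀] [IsScalarTower B L M₀]
    [Field M] [Algebra L M] (W : ValuationSubring M)
    (hW : EtRam.Dominates B ((algebraMap L M).comp (algebraMap B L)) W) :
    ∃ (M' : Type u) (_ : Field M') (g : M →+* M') (h : M₀ →+* M') (W' : ValuationSubring M'),
      g.comp (algebraMap L M) = h.comp (algebraMap L M₀) ∧ W'.comap g = W ∧
      EtRam.Dominates C (h.comp (algebraMap C M₀)) W' ∧
      Subfield.closure (Set.range g ∪ Set.range h) = ⊤ := by
  classical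
  let i : B →+* W := RingHom.codRestrict ((algebraMap L M).comp (algebraMap B L)) W hW.1
  letI : Algebra B W := i.toAlgebra
  haveI hloc : IsLocalHom (algebraMap B C) := ‹_›
  haveI := flat_of_injective hinj
  haveI : Module.FaithfullyFlat B C := Module.FaithfullyFlat.of_flat_of_isLocalHom
  haveI : Module.FaithfullyFlat W (W ⊗[B] C) := inferInstance
  -- a prime over the closed points
  obtain ⟨P, hP⟩ := PrimeSpectrum.comap_surjective_of_faithfullyFlat (A := W) (B := W ⊗[B] C)
    (IsLocalRing.closedPoint W)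
  have hPm : P.asIdeal.comap (algebraMap W (W ⊗[B] C)) = maximalIdeal W := congrArg PrimeSpectrum.asIdeal hP
  let jC : C →+* W ⊗[B] C := (Algebra.TensorProduct.includeRight : C →ₐ[B] W ⊗[B] C).toRingHom
  have hjB : ∀ b, algebraMap W (W ⊗[B] C) (i b) = jC (algebraMap B C b) := fun b =>
    ((Algebra.TensorProduct.includeRight : C →ₐ[B] W ⊗[B] C).commutes b).symm
  have hiM : ∀ b ∈ maximalIdeal B, i b ∈ maximalIdeal W := fun b hb =>
    (W.valuation_lt_one_iff _).2 (hW.2 b hb)
  obtain ⟨ϖ, hϖ⟩ := IsDiscreteValuationRing.exists_irreducible B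
  have hϖC : algebraMap B C ϖ ≠ 0 := fun h => hϖ.ne_zero (hinj (h.trans (map_zero _).symm))
  have hPC : P.asIdeal.comap jC = maximalIdeal C := by
    have h1 : algebraMap B C ϖ ∈ P.asIdeal.comap jC := by
      rw [Ideal.mem_comap, ← hjB, ← Ideal.mem_comap, hPm]
      exact hiM ϖ (hϖ.maximalIdeal_eq ▸ Ideal.mem_span_singleton_self ϖ)
    haveI : (P.asIdeal.comap jC).IsMaximal :=
      Ideal.IsPrime.isMaximal (Ideal.comap_isPrime jC P.asIdeal) fun h => hϖC (by rwa [h] at h1)
    exact IsLocalRing.eq_maximalIdeal this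
  -- a prime below it over the generic points
  haveI : Module.Flat W (W ⊗[B] C) := inferInstance
  haveI : P.asIdeal.LiesOver (maximalIdeal W) := ⟨hPm.symm⟩
  obtain ⟨Q, hQP, hQ, hQ0⟩ := Ideal.exists_ideal_le_liesOver_of_le P.asIdeal
    (bot_le : (⊥ : Ideal W) ≤ maximalIdeal W)
  haveI := hQ
  have hQW : Q.comap (algebraMap W (W ⊗[B] C)) = ⊥ := hQ0.over.symm
  have hQC : Q.comap jC = ⊥ := by
    by_contra h
    haveI : (Q.comap jC).IsMaximal := Ideal.IsPrime.isMaximal (Ideal.comap_isPrime jC Q) h
    have h1 : algebraMap B C ϖ ∈ Q.comap jC := by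
      rw [IsLocalRing.eq_maximalIdeal this, ← hPC, Ideal.mem_comap, ← hjB, ← Ideal.mem_comap, hPm]
      exact hiM ϖ (hϖ.maximalIdeal_eq ▸ Ideal.mem_span_singleton_self ϖ)
    rw [Ideal.mem_comap, ← hjB, ← Ideal.mem_comap, hQW, Ideal.mem_bot] at h1
    have h2 : ((algebraMap L M).comp (algebraMap B L)) ϖ = 0 := congrArg Subtype.val h1
    rw [RingHom.comp_apply, map_eq_zero] at h2
    exact hϖ.ne_zero (IsFractionRing.injective B L (h2.trans (map_zero _).symm))
  obtain ⟨M', _, q, W', hq, hW', hlt, hfrac⟩ := exists_valuation_of_le P.asIdeal Q hQP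
  let gW : W →+* M' := q.comp (algebraMap W (W ⊗[B] C))
  have hgW : Function.Injective gW := (injective_iff_map_eq_zero gW).2 fun x hx => by
    have := hq _ hx
    rwa [← Ideal.mem_comap, hQW, Ideal.mem_bot] at this
  let hC : C →+* M' := q.comp jC
  have hhC : Function.Injective hC := (injective_iff_map_eq_zero hC).2 fun x hx => by
    have := hq _ hx
    rwa [← Ideal.mem_comap, hQC, Ideal.mem_bot] at this
  let g : M →+* M' := IsFractionRing.lift hgW
  let h : M₀ →+* M' := IsFractionRing.lift hhC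
  have hg : ∀ x : W, g x = gW x := fun x => IsFractionRing.lift_algebraMap hgW x
  have hh : ∀ c, h (algebraMap C M₀ c) = hC c := fun c => IsFractionRing.lift_algebraMap hhC c
  have hcomm : g.comp (algebraMap L M) = h.comp (algebraMap L M₀) := by
    refine IsLocalization.ringHom_ext (nonZeroDivisors B) ?_
    ext b
    simp only [RingHom.comp_apply]
    rw [← IsScalarTower.algebraMap_apply B L M₀, IsScalarTower.algebraMap_apply B C M₀, hh,
      show algebraMap L M (algebraMap B L b) = ((i b : W) : M) from rfl, hg]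
    exact congrArg q (hjB b)
  refine ⟨M', inferInstance, g, h, W', hcomm, ?_, ⟨fun c => ?_, fun c hc => ?_⟩, eq_top_iff.2 fun z _ => ?_⟩
  · refine SetLike.ext fun x => ⟨fun hx => ?_, fun hx => ?_⟩
    · by_contra hn
      have hinv : x⁻¹ ∈ W := (W.mem_or_inv_mem x).resolve_left hn
      have h1 : (⟨x⁻¹, hinv⟩ : W) ∈ maximalIdeal W := by
        refine (mem_maximalIdeal _).2 fun hu => hn ?_
        obtain ⟨u, hu⟩ := hu
        have h2 : x⁻¹ * ((u⁻¹ : Wˣ) : M) = 1 := by
          have := congrArg Subtype.val u.mul_inv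
          simpa [hu] using this
        rw [show x = ((u⁻¹ : Wˣ) : M) by rw [← inv_inv x]; exact (eq_inv_of_mul_eq_one_right h2).symm]
        exact (u⁻¹ : Wˣ).val.2
      rw [← hPm, Ideal.mem_comap] at h1
      have h3 : W'.valuation (g x⁻¹) < 1 := (hg ⟨x⁻¹, hinv⟩).symm ▸ hlt _ h1
      have h4 : W'.valuation (g x) ≤ 1 := (W'.valuation_le_one_iff _).2 hx
      have h5 : W'.valuation (g x⁻¹ * g x) < 1 := by
        rw [map_mul]
        exact lt_of_le_of_lt (mul_le_of_le_one_right' h4) h3
      rw [← map_mul, inv_mul_cancel₀ (fun h0 => hn (by rw [h0]; exact zero_mem W)), map_one, map_one] at h5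
      exact lt_irrefl _ h5
    · show g x ∈ W'
      rw [hg ⟨x, hx⟩]
      exact hW' _
  · rw [RingHom.comp_apply, hh]
    exact hW' _
  · rw [RingHom.comp_apply, hh]
    refine hlt _ ?_
    rwa [← hPC, Ideal.mem_comap] at hc
  · have hmem : ∀ x, q x ∈ Subfield.closure (Set.range g ∪ Set.range h) := fun x => by
      induction x using TensorProduct.induction_on with
      | zero => rw [map_zero]; exact zero_mem _
      | tmul w c =>
        rw [show (w ⊗ₜ[B] c : W ⊗[B] C) = algebraMap W _ w * jC c by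
          simp [jC, Algebra.TensorProduct.algebraMap_apply]]
        rw [map_mul]
        exact mul_mem (Subfield.subset_closure (Or.inl ⟨w, hg w⟩))
          (Subfield.subset_closure (Or.inr ⟨algebraMap C M₀ c, hh c⟩))
      | add a b ha hb => rw [map_add]; exact add_mem ha hb
    obtain ⟨a, b, rfl⟩ := hfrac z
    exact div_mem (hmem a) (hmem b)

end Groth.Agent.EtRam93
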