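import Groth.Agent.EtRam93.DegreeP
import Mathlib

/-!
# Artin-Schreier extensions of the fraction field of a DVR
-/

set_option autoImplicit false
set_option linter.style.haveILetI false
set_option linter.unusedSectionVars false

universe u

open IsLocalRing Polynomial

namespace Groth.Agent.EtRam93

variable {A K L : Type u} [CommRing A] [IsDomain A] [IsDiscreteValuationRing A] [Field K] [Algebra A K]
  [IsFractionRing A K] [Field L] [Algebra K L] [Algebra A L] [IsScalarTower A K L]

/-- Case (4) of the trichotomy. -/
def InsepCase (A : Type u) [CommRing A] [IsLocalRing A] (L : Type u) [Field L] [Algebra A L] (p : ℕ) : Prop :=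
  (∃ V : ValuationSubring L, EtRam.Dominates A (algebraMap A L) V) ∧
      (∀ V V' : ValuationSubring L, EtRam.Dominates A (algebraMap A L) V →
        EtRam.Dominates A (algebraMap A L) V' → V = V') ∧
      ∀ (V : ValuationSubring L) (h : EtRam.Dominates A (algebraMap A L) V),
        letI : Algebra A V := (RingHom.codRestrict (algebraMap A L) V h.1).toAlgebra
        ∀ [IsLocalHom (algebraMap A V)],
          EtRam.IsWeaklyUnramified A V ∧
            IsPurelyInseparable (ResidueField A) (ResidueField V) ∧
            Module.finrank (ResidueField A) (ResidueField V) = p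

/-- The four cases together. -/
def FourCases (A K L : Type u) [CommRing A] [IsLocalRing A] [Field K] [Field L] [Algebra K L] [Algebra A L]
    (p : ℕ) : Prop :=
  Module.finrank K L = 1 ∨ (EtRam.IsUnramifiedExt A (algebraMap A L) ∧ Module.finrank K L = p) ∨
    (EtRam.IsTotallyRamified A (algebraMap A L) ∧ Module.finrank K L = p) ∨ InsepCase A L p

section AS

variable {p : ℕ} [CharP K p] (hp : p.Prime) {ξ : K} {z : L} (hz : z ^ p - z = algebraMap K L ξ)
  (hgen : IntermediateField.adjoin K {z} = ⊤)

include hp hz in
theorem as_aeval : aeval z (X ^ p - X - C ξ : K[X]) = 0 := by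
  simp only [map_sub, map_pow, aeval_X, aeval_C, hz, sub_self]

include hp in
theorem as_monic : (X ^ p - X - C ξ : K[X]).Monic := by
  rw [sub_sub]
  exact monic_X_pow_sub (degree_X_add_C _ |>.trans_lt (by exact_mod_cast hp.one_lt))

include hp in
theorem as_natDegree : (X ^ p - X - C ξ : K[X]).natDegree = p := by
  rw [sub_sub]
  exact natDegree_eq_of_degree_eq_some (by
    rw [degree_sub_eq_left_of_degree_lt] <;> rw [degree_X_pow]
    exact degree_X_add_C _ |>.trans_lt (by exact_mod_cast hp.one_lt))

include hp hz hgen in
theorem as_finite : FiniteDimensional K L := by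
  have hint : IsIntegral K z := ⟨_, as_monic hp (ξ := ξ), (as_aeval hp hz :)⟩
  haveI := IntermediateField.adjoin.finiteDimensional hint
  rw [hgen] at this
  exact Module.Finite.equiv IntermediateField.topEquiv.toLinearEquiv

include hp hz hgen in
theorem as_finrank_le : Module.finrank K L ≤ p := by
  have hint : IsIntegral K z := ⟨_, as_monic hp (ξ := ξ), (as_aeval hp hz :)⟩
  have h := IntermediateField.adjoin.finrank hint
  rw [hgen, IntermediateField.finrank_top'] at h
  rw [h]
  exact (natDegree_le_of_dvd (minpoly.dvd K z (as_aeval hp hz)) (as_monic hp).ne_zero).trans_eq (as_natDegree hp)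

include hp hz hgen in
theorem as_isGalois : IsGalois K L := by
  classical
  haveI := Fact.mk hp
  haveI : CharP L p := charP_of_injective_algebraMap (algebraMap K L).injective p
  set f : K[X] := X ^ p - X - C ξ
  have hsep : f.Separable := by
    rw [separable_def]
    simp only [f, derivative_sub, derivative_X_pow, derivative_X, derivative_C, sub_zero, CharP.cast_eq_zero, C_0,
      zero_mul, zero_sub]
    exact isCoprime_one_right.neg_right
  let ι : ZMod p →+* L := ZMod.castHom dvd_rfl L
  have hroot : ∀ i : ZMod p, z + ι i ∈ f.rootSet L := fun i => by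
    rw [mem_rootSet, and_iff_right (as_monic hp).ne_zero]
    simp only [f, map_sub, map_pow, aeval_X, aeval_C]
    rw [add_pow_char, ← map_pow, ZMod.pow_card, ← hz]
    ring
  have hinj : Function.Injective fun i : ZMod p => z + ι i := fun i j h => ι.injective (add_left_cancel h)
  have hs : (f.map (algebraMap K L)).Splits := by
    refine splits_iff_card_roots.2 (le_antisymm (card_roots' _) ?_)
    rw [natDegree_map, as_natDegree hp]
    calc p = (Finset.univ.image fun i : ZMod p => z + ι i).card := by
          rw [Finset.card_image_of_injective _ hinj, Finset.card_univ, ZMod.card]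
      _ ≤ (f.map (algebraMap K L)).roots.toFinset.card := Finset.card_le_card fun x hx => by
          obtain ⟨i, -, rfl⟩ := Finset.mem_image.1 hx
          rw [Multiset.mem_toFinset, ← aroots_def, mem_aroots]
          exact ⟨(as_monic hp).ne_zero, (mem_rootSet.1 (hroot i)).2⟩
      _ ≤ _ := Multiset.toFinset_card_le _
  haveI : f.IsSplittingField K L := by
    refine ⟨hs, eq_top_iff.2 ?_⟩
    have halg : IsAlgebraic K z := ⟨f, (as_monic hp).ne_zero, (as_aeval hp hz :)⟩
    have h : (IntermediateField.adjoin K {z}).toSubalgebra = Algebra.adjoin K {z} :=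
      IntermediateField.adjoin_simple_toSubalgebra_of_isAlgebraic halg
    rw [hgen, IntermediateField.top_toSubalgebra] at h
    rw [h]
    refine Algebra.adjoin_mono (Set.singleton_subset_iff.2 ?_)
    simpa using hroot 0
  exact IsGalois.of_separable_splitting_field hsep

include hp hz hgen in
theorem as_finrank_eq : Module.finrank K L = 1 ∨ Module.finrank K L = p := by
  haveI := Fact.mk hp
  haveI : CharP L p := charP_of_injective_algebraMap (algebraMap K L).injective p
  haveI := as_isGalois hp hz hgen
  haveI := as_finite hp hz hgen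
  let ι : ZMod p →+* L := ZMod.castHom dvd_rfl L
  have hex : ∀ σ : Gal(L/K), ∃ i : ZMod p, σ z = z + ι i := fun σ => by
    have h1 : (σ z - z) ^ p = σ z - z := by
      have h2 := congrArg σ hz
      rw [map_sub, map_pow, AlgEquiv.commutes, ← hz] at h2
      rw [sub_pow_char]
      linear_combination h2
    have hmem : σ z - z ∈ (ι.fieldRange : Subfield L) := by
      by_contra hc
      classical
      have hne : (X ^ p - X : L[X]) ≠ 0 := FiniteField.X_pow_card_sub_X_ne_zero L hp.one_lt
      have hsub : insert (σ z - z) (Finset.univ.image ι) ⊆ (X ^ p - X : L[X]).roots.toFinset := by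
        intro x hx
        rw [Multiset.mem_toFinset, mem_roots hne, IsRoot, eval_sub, eval_pow, eval_X, sub_eq_zero]
        rcases Finset.mem_insert.1 hx with rfl | hx
        · exact h1
        · obtain ⟨i, -, rfl⟩ := Finset.mem_image.1 hx
          rw [← map_pow, ZMod.pow_card]
      have h3 := (Finset.card_le_card hsub).trans ((Multiset.toFinset_card_le _).trans (card_roots' _))
      rw [FiniteField.X_pow_card_sub_X_natDegree_eq L hp.one_lt, Finset.card_insert_of_notMem (fun h => hc (by
        obtain ⟨i, -, hi⟩ := Finset.mem_image.1 h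
        exact ⟨i, hi⟩)), Finset.card_image_of_injective _ ι.injective, Finset.card_univ, ZMod.card] at h3
      omega
    obtain ⟨i, hi⟩ := hmem
    exact ⟨i, by rw [hi]; ring⟩
  choose φ hφ using hex
  let ψ : Gal(L/K) →* Multiplicative (ZMod p) := MonoidHom.mk' (fun σ => Multiplicative.ofAdd (φ σ)) fun σ τ => by
    rw [← ofAdd_add]
    refine congrArg Multiplicative.ofAdd (ι.injective ?_)
    have h := hφ (σ * τ)
    rw [AlgEquiv.mul_apply, hφ τ, map_add, hφ σ,
      show σ (ι (φ τ)) = ι (φ τ) from RingHom.congr_fun (Subsingleton.elim ((σ : L →+* L).comp ι) ι) _] at h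
    rw [map_add]
    linear_combination -h
  have hψ : Function.Injective ψ := fun σ τ h => by
    have h' : φ σ = φ τ := Multiplicative.ofAdd.injective h
    have hz' : (σ : L →ₐ[K] L) z = (τ : L →ₐ[K] L) z := by
      show σ z = τ z
      rw [hφ σ, hφ τ, h']
    have htop : Algebra.adjoin K ({z} : Set L) = ⊤ := by
      have := IntermediateField.adjoin_simple_toSubalgebra_of_isAlgebraic
        (Algebra.IsAlgebraic.isAlgebraic (R := K) z)
      rw [hgen, IntermediateField.top_toSubalgebra] at this
      exact this.symm
    have := AlgHom.ext_of_adjoin_eq_top htop (φ₁ := (σ : L →ₐ[K] L)) (φ₂ := (τ : L →ₐ[K] L))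
      (by rintro x rfl; exact hz')
    exact AlgEquiv.ext fun x => AlgHom.congr_fun this x
  have hdvd := Subgroup.card_dvd_of_injective ψ hψ
  rw [IsGalois.card_aut_eq_finrank, Nat.card_congr Multiplicative.toAdd, Nat.card_zmod] at hdvd
  exact (Nat.dvd_prime hp).1 hdvd

end AS

/-- The classification of Artin-Schreier extensions. -/
theorem artinSchreier (p : ℕ) (hp : p.Prime) [CharP K p] (π : A) (hπ : maximalIdeal A = Ideal.span {π})
    (ξ : K) (z : L) (hz : z ^ p - z = algebraMap K L ξ) (hgen : IntermediateField.adjoin K {z} = ⊤) :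
    IsGalois K L ∧ FourCases A K L p ∧
      ((∃ a : A, algebraMap A K a = ξ) →
        Module.finrank K L = 1 ∨ (EtRam.IsUnramifiedExt A (algebraMap A L) ∧ Module.finrank K L = p)) ∧
      (∀ (n : ℕ) (a : Aˣ), 0 < n → ¬ p ∣ n → ξ * algebraMap A K π ^ n = algebraMap A K a →
        EtRam.IsTotallyRamified A (algebraMap A L) ∧ Module.finrank K L = p) ∧
      (∀ (n : ℕ) (a : A), 0 < n → p ∣ n → (∀ r : A, residue A a ≠ residue A r ^ p) →
          ξ * algebraMap A K π ^ n = algebraMap A K a → InsepCase A L p) := by
  haveI := Fact.mk hp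
  haveI : CharP A p := (RingHom.charP_iff _ (IsFractionRing.injective A K) p).2 inferInstance
  haveI : CharP (ResidueField A) p := (CharP.charP_iff_prime_eq_zero hp).2 (by
    rw [← map_natCast (residue A), CharP.cast_eq_zero, map_zero])
  haveI : CharP L p := charP_of_injective_algebraMap (algebraMap K L).injective p
  haveI := as_finite hp hz hgen
  let P : A[X] := X ^ p - X
  have hPm : P.Monic := monic_X_pow_sub (degree_X.trans_lt (by exact_mod_cast hp.one_lt))
  have hPd : P.natDegree = p := natDegree_eq_of_degree_eq_some (by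
    show (X ^ p - X : A[X]).degree = _
    rw [degree_sub_eq_left_of_degree_lt] <;> rw [degree_X_pow]
    rw [degree_X]; exact_mod_cast hp.one_lt)
  have hPz : ∀ w : L, aeval w P = w ^ p - w := fun w => by simp [P]
  have hPres : P.map (residue A) = X ^ p - X := by simp [P]
  have hpole : ∀ (ξ : K) (w : L) (n : ℕ) (a : A), w ^ p - w = algebraMap K L ξ →
      ξ * algebraMap A K π ^ n = algebraMap A K a → aeval w P * algebraMap A L π ^ n = algebraMap A L a :=
    fun ξ w n a hw h => by
      rw [hPz, hw, IsScalarTower.algebraMap_apply A K L π, IsScalarTower.algebraMap_apply A K L a, ← map_pow,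
        ← map_mul, h]
  have hA : ∀ (ξ : K) (w : L) (a : A), w ^ p - w = algebraMap K L ξ → IntermediateField.adjoin K {w} = ⊤ →
      algebraMap A K a = ξ →
      Module.finrank K L = 1 ∨ (EtRam.IsUnramifiedExt A (algebraMap A L) ∧ Module.finrank K L = p) := by
    intro ξ w a hw hgen ha
    rcases as_finrank_eq hp hw hgen with h | h
    · exact Or.inl h
    · exact Or.inr ⟨isUnramifiedExt_of_integral (K := K) hPm hp hPd hPres hgen (a := a) (by
        rw [hPz, hw, IsScalarTower.algebraMap_apply A K L a, ha]), h⟩
  have hdeg := as_finrank_le hp hz hgen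
  refine ⟨as_isGalois hp hz hgen, ?_, fun ⟨a, ha⟩ => hA ξ z a hz hgen ha,
    fun n a hn hpn h => isTotallyRamified_of_pole hPm hp hPd hπ hdeg hn hpn a.isUnit (hpole ξ z n a hz h),
    fun n a hn hpn hr h => (inseparable_of_pole hPm hp hPd hπ hdeg hn hpn hr (hpole ξ z n a hz h)).2⟩
  -- reduce the order of the pole
  have main : ∀ (n : ℕ) (ξ : K) (w : L) (a : A), w ^ p - w = algebraMap K L ξ →
      IntermediateField.adjoin K {w} = ⊤ → ξ * algebraMap A K π ^ n = algebraMap A K a → FourCases A K L p := by
    intro n
    induction n with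
    | zero =>
      intro ξ w a hw hgen h
      rw [pow_zero, mul_one] at h
      exact (hA ξ w a hw hgen h.symm).imp_right Or.inl
    | succ n ih =>
      intro ξ w a hw hgen h
      have hπK : algebraMap A K π ≠ 0 := fun h => ((IsDiscreteValuationRing.irreducible_iff_uniformizer π).2 hπ).ne_zero
        (IsFractionRing.injective A K (h.trans (map_zero _).symm))
      by_cases hu : IsUnit a
      swap
      · obtain ⟨b, rfl⟩ := Ideal.mem_span_singleton'.1 (hπ ▸ (mem_maximalIdeal a).2 hu)
        refine ih ξ w b hw hgen (mul_right_cancel₀ hπK ?_)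
        rw [mul_assoc, ← pow_succ, h, map_mul]
      by_cases hpn : p ∣ n + 1
      swap
      · exact Or.inr (Or.inr (Or.inl
          (isTotallyRamified_of_pole hPm hp hPd hπ (as_finrank_le hp hw hgen) n.succ_pos hpn hu (hpole ξ w _ a hw h))))
      by_cases hr : ∀ r : A, residue A a ≠ residue A r ^ p
      · exact Or.inr (Or.inr (Or.inr
          (inseparable_of_pole hPm hp hPd hπ (as_finrank_le hp hw hgen) n.succ_pos hpn hr (hpole ξ w _ a hw h)).2))
      push Not at hr
      obtain ⟨r, hr⟩ := hr
      obtain ⟨b, hb⟩ := Ideal.mem_span_singleton'.1 (hπ ▸ (Ideal.Quotient.eq.1 (hr.trans (map_pow _ r p).symm)))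
      obtain ⟨m, hm⟩ := hpn
      have hmn : m ≤ n := by
        have := Nat.mul_le_mul_right m hp.two_le
        omega
      let c : K := algebraMap A K r / algebraMap A K π ^ m
      refine ih (ξ - c ^ p + c) (w - algebraMap K L c) (b + r * π ^ (n - m)) ?_ ?_ ?_
      · rw [sub_pow_char, ← map_pow, map_add, map_sub, ← hw]
        ring
      · refine eq_top_iff.2 (hgen ▸ IntermediateField.adjoin_simple_le_iff.2 ?_)
        have := add_mem (IntermediateField.mem_adjoin_simple_self K (w - algebraMap K L c))
          ((IntermediateField.adjoin K {w - algebraMap K L c}).algebraMap_mem c)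
        rwa [sub_add_cancel] at this
      · refine mul_right_cancel₀ hπK ?_
        rw [mul_assoc, ← pow_succ, add_mul, sub_mul, h, map_add, map_mul, map_pow, add_mul]
        have h1 : c ^ p * algebraMap A K π ^ (n + 1) = algebraMap A K r ^ p := by
          rw [div_pow, ← pow_mul, mul_comm m p, ← hm, div_mul_cancel₀ _ (pow_ne_zero _ hπK)]
        have h2 : c * algebraMap A K π ^ (n + 1) =
            algebraMap A K r * algebraMap A K π ^ (n - m) * algebraMap A K π := by
          rw [mul_assoc, ← pow_succ, show n + 1 = m + (n - m + 1) by omega, pow_add, ← mul_assoc,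
            div_mul_cancel₀ _ (pow_ne_zero _ hπK)]
        rw [h1, h2, ← map_pow, ← map_mul _ b, hb, map_sub]
  obtain ⟨x, y, hy, rfl⟩ := IsFractionRing.div_surjective (A := A) ξ
  obtain ⟨n, u, hu⟩ := IsDiscreteValuationRing.eq_unit_mul_pow_irreducible (nonZeroDivisors.ne_zero hy)
    ((IsDiscreteValuationRing.irreducible_iff_uniformizer π).2 hπ)
  refine main n _ z (↑u⁻¹ * x) hz hgen ?_
  have hy0 : algebraMap A K y ≠ 0 := IsFractionRing.to_map_ne_zero_of_mem_nonZeroDivisors hy
  rw [← map_pow, show π ^ n = ↑u⁻¹ * y by rw [hu, Units.inv_mul_cancel_left], map_mul, map_mul]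
  field_simp

end Groth.Agent.EtRam93
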