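import Groth.Agent.EtRam93.RootOfUnif
import Mathlib

/-!
# Totally ramified separable extensions of prime power degree with a nice uniformizer
-/

set_option autoImplicit false
set_option linter.style.haveILetI false

universe u

open IsLocalRing Polynomial

namespace Groth.Agent.EtRam93

theorem exists_totallyRamified_pow (A K : Type u)
    [CommRing A] [IsDomain A] [IsDiscreteValuationRing A] [Field K] [Algebra A K] [IsFractionRing A K]
    (π : A) (hπ : maximalIdeal A = Ideal.span {π}) (n : ℕ) (hn : 1 < n) (q : ℕ) (hq : 0 < q) :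
    ∃ (L : Type u) (_ : Field L) (_ : Algebra K L) (_ : Algebra A L) (_ : IsScalarTower A K L),
      Module.finrank K L = q ∧ Algebra.IsSeparable K L ∧ EtRam.IsTotallyRamified A (algebraMap A L) ∧
      ∃ πB b b' : L, πB ∈ integralClosure A L ∧ b ∈ integralClosure A L ∧ b' ∈ integralClosure A L ∧
        πB ^ q = algebraMap A L π + algebraMap A L π ^ n * b ∧
        πB ^ q = algebraMap A L π + πB ^ (n * q) * b' := by
  classical
  have hirr : Irreducible π := (IsDiscreteValuationRing.irreducible_iff_uniformizer π).2 hπ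
  have hπm : π ∈ maximalIdeal A := hπ ▸ Ideal.mem_span_singleton_self π
  -- the equation
  let γ : A := if q = 1 then 0 else π ^ n
  let f₀ : A[X] := X ^ q - C γ * X - C π
  have hf₀deg : (C γ * X + C π : A[X]).degree < (q : WithBot ℕ) := by
    refine (degree_add_le _ _).trans_lt (max_lt ?_ ((degree_C_le).trans_lt (by exact_mod_cast hq)))
    rcases eq_or_ne q 1 with h1 | h1
    · simp [γ, h1]
    · exact (degree_C_mul_X_le _).trans_lt (by exact_mod_cast (show 1 < q by omega))
  have hf₀m : f₀.Monic := by
    show (X ^ q - C γ * X - C π).Monic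
    rw [sub_sub]
    exact monic_X_pow_sub hf₀deg
  have hf₀nat : f₀.natDegree = q := natDegree_eq_of_degree_eq_some (by
    show (X ^ q - C γ * X - C π).degree = _
    rw [sub_sub, degree_sub_eq_left_of_degree_lt] <;> rw [degree_X_pow]
    exact hf₀deg)
  let f : K[X] := f₀.map (algebraMap A K)
  have hfm : f.Monic := hf₀m.map _
  have hfdeg : f.natDegree = q := (hf₀m.natDegree_map _).trans hf₀nat
  have hfu : ¬ IsUnit f := fun h => hq.ne' (hfdeg.symm.trans (natDegree_eq_zero_of_isUnit h))
  obtain ⟨g, hgirr, hgf⟩ := WfDvdMonoid.exists_irreducible_factor hfu hfm.ne_zero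
  haveI := Fact.mk hgirr
  let L := AdjoinRoot g
  let t : L := AdjoinRoot.root g
  haveI : IsScalarTower A K L := inferInstance
  haveI : FiniteDimensional K L := (AdjoinRoot.powerBasis hgirr.ne_zero).finite
  have hinj : Function.Injective (algebraMap A L) := algebraMap_injective_of_tower A K L
  have hrel : t ^ q = algebraMap A L π + algebraMap A L γ * t := by
    have h0 : aeval t f = 0 := by
      obtain ⟨k, hk⟩ := hgf
      rw [hk, map_mul, AdjoinRoot.aeval_eq, AdjoinRoot.mk_self, zero_mul]
    rw [aeval_map_algebraMap] at h0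
    simp only [f₀, map_sub, map_mul, map_pow, aeval_X, aeval_C] at h0
    linear_combination h0
  have hint : IsIntegral A t := ⟨f₀, hf₀m, by
    rw [← aeval_def]
    simp only [f₀, map_sub, map_mul, map_pow, aeval_X, aeval_C, hrel]
    ring⟩
  have hv : ∀ V, EtRam.Dominates A (algebraMap A L) V →
      V.valuation t ^ q = V.valuation (algebraMap A L π) ∧ V.valuation t < 1 := by
    intro V hd
    have hπ1 := hd.2 π hπm
    have hπ0 : 0 < V.valuation (algebraMap A L π) := zero_lt_iff.2 ((Valuation.ne_zero_iff _).2
      fun h => hirr.ne_zero (hinj (h.trans (map_zero _).symm)))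
    have hγ : V.valuation (algebraMap A L γ) ≤ V.valuation (algebraMap A L π) := by
      rcases eq_or_ne q 1 with h1 | h1
      · simp [γ, h1]
      · simp only [γ, h1, if_false, map_pow]
        exact pow_le_of_le_one zero_le hπ1.le (by omega)
    have ht1 : V.valuation t < 1 := by
      by_contra hc
      rw [not_lt] at hc
      have h1 : V.valuation t ^ q ≤ max (V.valuation (algebraMap A L π)) (V.valuation (algebraMap A L γ * t)) := by
        rw [← map_pow, hrel]
        exact Valuation.map_add _ _ _
      rcases le_max_iff.1 h1 with h2 | h2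
      · exact not_lt.2 (one_le_pow₀ hc) (h2.trans_lt hπ1)
      · rw [map_mul] at h2
        have h3 : V.valuation (algebraMap A L γ) * V.valuation t < 1 * V.valuation t :=
          mul_lt_mul_of_pos_right (hγ.trans_lt hπ1) (zero_lt_one.trans_le hc)
        rw [one_mul] at h3
        exact not_lt.2 (le_self_pow₀ hc hq.ne') (h2.trans_lt h3)
    refine ⟨?_, ht1⟩
    rw [← map_pow, hrel, Valuation.map_add_eq_of_lt_left]
    rw [map_mul]
    exact (mul_le_mul_left hγ _).trans_lt (mul_lt_of_lt_one_right hπ0 ht1)
  have hdeg : Module.finrank K L ≤ q := by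
    rw [(AdjoinRoot.powerBasis hgirr.ne_zero).finrank, AdjoinRoot.powerBasis_dim]
    exact hfdeg ▸ natDegree_le_of_dvd hgf hfm.ne_zero
  have hfin := finrank_eq_of_root (K := K) hπ hq (fun V hd => (hv V hd).1) hdeg
  have hass : Associated g f := by
    obtain ⟨k, hk⟩ := hgf
    have hk0 : k ≠ 0 := fun h => hfm.ne_zero (by rw [hk, h, mul_zero])
    have h1 := congrArg natDegree hk
    rw [natDegree_mul hgirr.ne_zero hk0, hfdeg] at h1
    rw [(AdjoinRoot.powerBasis hgirr.ne_zero).finrank, AdjoinRoot.powerBasis_dim] at hfin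
    obtain ⟨u, hu⟩ := isUnit_iff_degree_eq_zero.2 (by
      rw [degree_eq_natDegree hk0, show k.natDegree = 0 by omega]; rfl)
    exact ⟨u, by rw [hu, hk]⟩
  have hfirr : Irreducible f := hass.irreducible hgirr
  have hfsep : f.Separable := by
    refine (separable_iff_derivative_ne_zero hfirr).2 fun h0 => ?_
    have h1 := congrArg (coeff · 0) h0
    rcases eq_or_ne q 1 with hq1 | hq1
    · simp [f, f₀, γ, hq1] at h1
    · have hq2 : (q - 1 ≠ 0) := by omega
      simp [f, f₀, γ, hq1, derivative_X_pow] at h1
      rw [← C_pow, coeff_C_zero, if_neg (fun h => hq2 h.symm), zero_sub, neg_eq_zero, pow_eq_zero_iff (by omega), IsFractionRing.to_map_eq_zero_iff] at h1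
      exact hirr.ne_zero h1
  have hsep : Algebra.IsSeparable K L := by
    have ht : IsSeparable K t := hfsep.of_dvd (minpoly.dvd K t (by
      obtain ⟨k, hk⟩ := hgf
      rw [hk, map_mul, AdjoinRoot.aeval_eq, AdjoinRoot.mk_self, zero_mul]))
    have htop : IntermediateField.adjoin K ({t} : Set L) = ⊤ :=
      IntermediateField.adjoin_eq_top_of_algebra K _ AdjoinRoot.adjoinRoot_eq_top
    haveI : Algebra.IsSeparable K (⊤ : IntermediateField K L) := by
      rw [← htop]
      exact (IntermediateField.isSeparable_adjoin_simple_iff_isSeparable K L).2 ht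
    exact AlgEquiv.Algebra.isSeparable IntermediateField.topEquiv
  obtain ⟨V, hd⟩ := exists_dominates (algebraMap A L) hinj
  have hmem : ∀ x ∈ V, x ∈ integralClosure A L :=
    fun x hx => mem_integralClosure_of_root (K := K) hπ hq (fun V hd => (hv V hd).1) hdeg hd hint hx
  refine ⟨L, inferInstance, inferInstance, inferInstance, inferInstance, hfin, hsep,
    isTotallyRamified_of_root (K := K) hπ hq (fun V hd => (hv V hd).1) hdeg, t,
    if q = 1 then 0 else t, if q = 1 then 0 else t / (1 + algebraMap A L π ^ (n - 1) * t) ^ n,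
    hint, ?_, ?_, ?_, ?_⟩
  · split_ifs
    exacts [zero_mem _, hint]
  · split_ifs
    · exact zero_mem _
    · refine hmem _ ?_
      have h1 : V.valuation (1 + algebraMap A L π ^ (n - 1) * t) = 1 := by
        rw [Valuation.map_add_eq_of_lt_left, map_one]
        rw [map_mul, map_pow, map_one]
        exact (mul_le_of_le_one_left' (pow_le_one₀ zero_le (hd.2 π hπm).le)).trans_lt (hv V hd).2
      rw [← V.valuation_le_one_iff, map_div₀, map_pow, h1, one_pow, div_one]
      exact (hv V hd).2.le
  · rw [hrel]
    rcases eq_or_ne q 1 with h1 | h1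
    · simp [γ, h1]
    · simp [γ, h1]
  · rcases eq_or_ne q 1 with h1 | h1
    · rw [hrel]; simp [γ, h1]
    · have hγ : γ = π ^ n := if_neg h1
      have hne : (1 + algebraMap A L π ^ (n - 1) * t) ≠ 0 := fun h => by
        have h2 : V.valuation (1 : L) = V.valuation (algebraMap A L π ^ (n - 1) * t) := by
          rw [eq_neg_of_add_eq_zero_left h, Valuation.map_neg]
        rw [map_one, map_mul, map_pow] at h2
        exact ((mul_le_of_le_one_left' (pow_le_one₀ zero_le (hd.2 π hπm).le)).trans_lt (hv V hd).2).ne h2.symm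
      have hrel' : t ^ q = algebraMap A L π * (1 + algebraMap A L π ^ (n - 1) * t) := by
        rw [hrel, hγ, map_pow, mul_add, mul_one, ← mul_assoc, ← pow_succ', Nat.sub_add_cancel (by omega : 1 ≤ n)]
      rw [if_neg h1, mul_comm n q, pow_mul]
      conv_rhs => rw [hrel', mul_pow, mul_assoc, mul_div_cancel₀ _ (pow_ne_zero n hne)]
      rw [hrel, hγ, map_pow]

end Groth.Agent.EtRam93
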