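import Groth.Agent.EtRam93.Monogenic
import Groth.Agent.EtRam46.Compositum
import Mathlib

/-!
# The ramification of a degree `p` extension given by a monic equation `P z = ξ`

`P` is a monic polynomial of degree `p` over the DVR `A`, reducing to `X ^ p - X` where this matters,
and the three regimes are: `ξ` integral, a pole of order prime to `p`, and a pole of order divisible
by `p` with leading residue not a `p`th power.
-/

set_option autoImplicit false
set_option linter.style.haveILetI false
set_option linter.unusedSectionVars false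

universe u

open IsLocalRing Polynomial

namespace Groth.Agent.EtRam93

variable {A K L : Type u} [CommRing A] [IsDomain A] [IsDiscreteValuationRing A] [Field K] [Algebra A K]
  [IsFractionRing A K] [Field L] [Algebra K L] [Algebra A L] [IsScalarTower A K L]

/-- A monic polynomial over `A` without its leading term, evaluated at `z`. -/
theorem valuation_sub_pow_le {P : A[X]} (hP : P.Monic) {p : ℕ} (hp : 0 < p) (hdegP : P.natDegree = p)
    {V : ValuationSubring L} (hd : EtRam.Dominates A (algebraMap A L) V) (z : L) :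
    V.valuation (aeval z P - z ^ p) ≤ max 1 (V.valuation z ^ (p - 1)) := by
  conv_lhs => rw [hP.as_sum, hdegP]
  simp only [map_add, map_sum, map_mul, map_pow, aeval_X, aeval_C, add_sub_cancel_left]
  refine Valuation.map_sum_le _ fun i hi => ?_
  rw [map_mul, map_pow]
  refine (mul_le_of_le_one_left' ((V.valuation_le_one_iff _).2 (hd.1 _))).trans ?_
  rcases le_total (V.valuation z) 1 with h | h
  · exact (pow_le_one₀ zero_le h).trans (le_max_left _ _)
  · exact (pow_le_pow_right₀ h (by have := Finset.mem_range.1 hi; omega)).trans (le_max_right _ _)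

theorem valuation_aeval_le {P : A[X]} (hP : P.Monic) {p : ℕ} (hp : 0 < p) (hdegP : P.natDegree = p)
    {V : ValuationSubring L} (hd : EtRam.Dominates A (algebraMap A L) V) {z : L} (hz : V.valuation z ≤ 1) :
    V.valuation (aeval z P) ≤ 1 := by
  have h := valuation_sub_pow_le hP hp hdegP hd z
  rw [max_eq_left (pow_le_one₀ zero_le hz)] at h
  have h2 : V.valuation (z ^ p) ≤ 1 := by rw [map_pow]; exact pow_le_one₀ zero_le hz
  simpa using (V.valuation.map_add (aeval z P - z ^ p) (z ^ p)).trans (max_le h h2)

theorem valuation_sub_pow_lt {P : A[X]} (hP : P.Monic) {p : ℕ} (hp : 0 < p) (hdegP : P.natDegree = p)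
    {V : ValuationSubring L} (hd : EtRam.Dominates A (algebraMap A L) V) {z : L} (hz : 1 < V.valuation z) :
    V.valuation (aeval z P - z ^ p) < V.valuation z ^ p :=
  (valuation_sub_pow_le hP hp hdegP hd z).trans_lt (max_lt (one_lt_pow₀ hz hp.ne')
    (pow_lt_pow_right₀ hz (by omega)))

theorem valuation_aeval_eq {P : A[X]} (hP : P.Monic) {p : ℕ} (hp : 0 < p) (hdegP : P.natDegree = p)
    {V : ValuationSubring L} (hd : EtRam.Dominates A (algebraMap A L) V) {z : L} (hz : 1 < V.valuation z) :
    V.valuation (aeval z P) = V.valuation z ^ p := by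
  have h := valuation_sub_pow_lt hP hp hdegP hd hz
  rw [← map_pow] at h ⊢
  have := Valuation.map_add_eq_of_lt_right (v := V.valuation) h
  rwa [sub_add_cancel] at this

/-- With a pole, the values of `z` and of the uniformizer. -/
theorem valuation_of_pole {P : A[X]} (hP : P.Monic) {p : ℕ} (hp : 0 < p) (hdegP : P.natDegree = p)
    {π a : A} (hπ : maximalIdeal A = Ideal.span {π}) (ha : IsUnit a) {n : ℕ} (hn : 0 < n) {z : L}
    (hz : aeval z P * algebraMap A L π ^ n = algebraMap A L a)
    {V : ValuationSubring L} (hd : EtRam.Dominates A (algebraMap A L) V) :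
    1 < V.valuation z ∧ V.valuation z ^ p * V.valuation (algebraMap A L π) ^ n = 1 := by
  obtain ⟨u, rfl⟩ := ha
  have h1 := congrArg V.valuation hz
  rw [map_mul, map_pow, valuation_unit hd] at h1
  have hπ1 := hd.2 π (hπ ▸ Ideal.mem_span_singleton_self π)
  have hgt : 1 < V.valuation z := by
    by_contra hc
    have := valuation_aeval_le hP hp hdegP hd (not_lt.1 hc)
    exact ((mul_le_of_le_one_left' this).trans_lt (pow_lt_one₀ zero_le hπ1 hn.ne')).ne h1
  exact ⟨hgt, by rw [← valuation_aeval_eq hP hp hdegP hd hgt]; exact h1⟩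

variable [FiniteDimensional K L] {P : A[X]} {p : ℕ} {π : A} {z : L}

/-- Case (A): an integral right hand side gives an unramified extension. -/
theorem isUnramifiedExt_of_integral (hP : P.Monic) (hp : p.Prime) (hdegP : P.natDegree = p)
    [CharP (ResidueField A) p] (hPres : P.map (residue A) = X ^ p - X)
    (hgen : IntermediateField.adjoin K {z} = ⊤) {a : A} (hz : aeval z P = algebraMap A L a) :
    EtRam.IsUnramifiedExt A (algebraMap A L) := by
  obtain ⟨π, hπ⟩ := IsDiscreteValuationRing.exists_irreducible A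
  have hg : algebraMap A L = (algebraMap K L).comp (algebraMap A K) := IsScalarTower.algebraMap_eq A K L
  rw [hg, EtRam46.isUnramifiedExt_iff_unramExt]
  intro V hd
  rw [← hg] at hd ⊢
  haveI := EtRam46.isDVR_of_finite K (hg ▸ hd)
  have hzV : z ∈ V := by
    rw [← V.valuation_le_one_iff]
    by_contra hc
    rw [not_le] at hc
    have := valuation_aeval_eq hP hp.pos hdegP hd hc
    rw [hz] at this
    exact ((one_lt_pow₀ hc hp.ne_zero).trans_le (this ▸ (V.valuation_le_one_iff _).2 (hd.1 a))).false
  have hπm : π ∈ maximalIdeal A := (mem_maximalIdeal _).2 hπ.1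
  have hπ0 : algebraMap A L π ≠ 0 := fun h =>
    hπ.ne_zero (algebraMap_injective_of_tower A K L (h.trans (map_zero _).symm))
  have hF : Subfield.closure (Set.range (algebraMap A L) ∪ {z}) = ⊤ := by
    set F := Subfield.closure (Set.range (algebraMap A L) ∪ {z})
    have hK : ∀ k : K, algebraMap K L k ∈ F := fun k => by
      obtain ⟨x, y, -, rfl⟩ := IsFractionRing.div_surjective (A := A) k
      rw [map_div₀, ← IsScalarTower.algebraMap_apply, ← IsScalarTower.algebraMap_apply]
      exact div_mem (Subfield.subset_closure (Or.inl ⟨x, rfl⟩)) (Subfield.subset_closure (Or.inl ⟨y, rfl⟩))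
    refine eq_top_iff.2 fun x _ => ?_
    have hx : x ∈ IntermediateField.adjoin K {z} := hgen ▸ IntermediateField.mem_top
    exact (IntermediateField.adjoin_le_iff (T := F.toIntermediateField hK)).2
      (Set.singleton_subset_iff.2 (Subfield.subset_closure (Or.inr rfl))) hx
  obtain ⟨hu, hs⟩ := EtRam46.core_gen hd {z} (fun s hs => hs ▸ hzV) hF (hd.2 π hπm) hπ0
    (Subring.subset_closure (Or.inl ⟨π, rfl⟩)) (fun b hb => by
      rw [hπ.maximalIdeal_eq, Ideal.mem_span_singleton'] at hb
      obtain ⟨b', rfl⟩ := hb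
      exact ⟨algebraMap A L b', Subring.subset_closure (Or.inl ⟨b', rfl⟩), by rw [← map_mul, mul_comm]⟩)
    (by
      rintro s (rfl : s = z)
      refine ⟨P - C a, ?_, ?_, 0, zero_mem _, ?_⟩
      · exact hP.sub_of_left (degree_C_le.trans_lt (by
          rw [degree_eq_natDegree hP.ne_zero, hdegP]; exact_mod_cast hp.pos))
      · rw [Polynomial.map_sub, map_C, hPres, separable_def]
        rw [derivative_sub, derivative_sub, derivative_X_pow, derivative_X, derivative_C, sub_zero,
          CharP.cast_eq_zero, C_0, zero_mul, zero_sub]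
        exact isCoprime_one_right.neg_right
      · rw [eval₂_sub, eval₂_C, ← aeval_def, hz, sub_self, mul_zero])
  exact ⟨hs, π, algebraMap A L π, hπ, hu, (pow_one _).symm⟩

variable (hP : P.Monic) (hp : p.Prime) (hdegP : P.natDegree = p) (hπ : maximalIdeal A = Ideal.span {π})
  (hdeg : Module.finrank K L ≤ p) {n : ℕ} (hn : 0 < n)

include hP hp hdegP hπ hdeg hn in
/-- Case (B): a pole of order prime to `p` gives a totally ramified extension of degree `p`. -/
theorem isTotallyRamified_of_pole (hpn : ¬ p ∣ n) {a : A} (ha : IsUnit a)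
    (hz : aeval z P * algebraMap A L π ^ n = algebraMap A L a) :
    EtRam.IsTotallyRamified A (algebraMap A L) ∧ Module.finrank K L = p := by
  haveI := Fact.mk hp
  obtain ⟨i, j, hij⟩ : ∃ i j : ℕ, n * i + 1 = p * j := by
    refine ⟨(-(n : ZMod p)⁻¹).val, ?_⟩
    have h0 : ((n * (-(n : ZMod p)⁻¹).val + 1 : ℕ) : ZMod p) = 0 := by
      have hn0 : (n : ZMod p) ≠ 0 := fun h => hpn ((ZMod.natCast_eq_zero_iff _ _).1 h)
      push_cast
      rw [ZMod.natCast_val, ZMod.cast_id', id, mul_neg, mul_inv_cancel₀ hn0, neg_add_cancel]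
    obtain ⟨j, hj⟩ := (ZMod.natCast_eq_zero_iff _ _).1 h0
    exact ⟨j, hj⟩
  let t := z ^ i * algebraMap A L π ^ j
  have ht : ∀ V, EtRam.Dominates A (algebraMap A L) V →
      V.valuation t ^ p = V.valuation (algebraMap A L π) := by
    intro V hd
    have h := (valuation_of_pole hP hp.pos hdegP hπ ha hn hz hd).2
    show V.valuation (z ^ i * algebraMap A L π ^ j) ^ p = _
    rw [map_mul, map_pow, map_pow, mul_pow, ← pow_mul, ← pow_mul, mul_comm j p, ← hij, pow_succ,
      ← mul_assoc, mul_comm i p, pow_mul, pow_mul, ← mul_pow, h, one_pow, one_mul]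
  exact ⟨isTotallyRamified_of_root (K := K) hπ hp.pos ht hdeg, finrank_eq_of_root (K := K) hπ hp.pos ht hdeg⟩

include hP hp hdegP hπ hdeg hn in
/-- Case (C): a pole of order divisible by `p` whose leading residue is not a `p`th power. -/
theorem inseparable_of_pole [CharP (ResidueField A) p] (hpn : p ∣ n) {a : A}
    (ha : ∀ r : A, residue A a ≠ residue A r ^ p)
    (hz : aeval z P * algebraMap A L π ^ n = algebraMap A L a) :
    Module.finrank K L = p ∧ ((∃ V : ValuationSubring L, EtRam.Dominates A (algebraMap A L) V) ∧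
      (∀ V V' : ValuationSubring L, EtRam.Dominates A (algebraMap A L) V →
        EtRam.Dominates A (algebraMap A L) V' → V = V') ∧
      ∀ (V : ValuationSubring L) (h : EtRam.Dominates A (algebraMap A L) V),
        letI : Algebra A V := (RingHom.codRestrict (algebraMap A L) V h.1).toAlgebra
        ∀ [IsLocalHom (algebraMap A V)],
          EtRam.IsWeaklyUnramified A V ∧
            IsPurelyInseparable (ResidueField A) (ResidueField V) ∧
            Module.finrank (ResidueField A) (ResidueField V) = p) := by
  classical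
  haveI := Fact.mk hp
  obtain ⟨m, rfl⟩ := hpn
  have hau : IsUnit a := by
    by_contra h
    refine ha 0 ?_
    rw [map_zero, zero_pow hp.ne_zero, residue_eq_zero_iff]
    exact (mem_maximalIdeal _).2 h
  have hirr : Irreducible (X ^ p - C (residue A a)) :=
    X_pow_sub_C_irreducible_of_prime hp fun b hb => by
      obtain ⟨r, rfl⟩ := residue_surjective b
      exact ha r hb.symm
  let w := algebraMap A L π ^ m * z
  have hv : ∀ V, EtRam.Dominates A (algebraMap A L) V →
      V.valuation w ≤ 1 ∧ V.valuation (w ^ p - algebraMap A L a) < 1 := by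
    intro V hd
    obtain ⟨hgt, h⟩ := valuation_of_pole hP hp.pos hdegP hπ hau hn hz hd
    have hw1 : V.valuation w ^ p = 1 := by
      show V.valuation (algebraMap A L π ^ m * z) ^ p = 1
      rw [map_mul, map_pow, mul_pow, ← pow_mul, mul_comm m p, mul_comm, h]
    refine ⟨((pow_eq_one_iff_left hp.ne_zero).1 hw1).le, ?_⟩
    have heq : w ^ p - algebraMap A L a = - (algebraMap A L π ^ (p * m) * (aeval z P - z ^ p)) := by
      rw [← hz]; simp only [w]; ring
    rw [heq, Valuation.map_neg, map_mul, map_pow, ← h, mul_comm _ (V.valuation (algebraMap A L π) ^ (p * m))]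
    exact mul_lt_mul_of_pos_left (valuation_sub_pow_lt hP hp.pos hdegP hd hgt)
      (pow_pos (zero_lt_iff.2 ((Valuation.ne_zero_iff _).2 (uniformizer_ne_zero hπ
        (algebraMap_injective_of_tower A K L)))) _)
  have hw : ∀ V, EtRam.Dominates A (algebraMap A L) V → w ∈ V := fun V hd =>
    (V.valuation_le_one_iff _).1 (hv V hd).1
  have key : ∀ (V : ValuationSubring L) (hd : EtRam.Dominates A (algebraMap A L) V),
      letI : Algebra A V := (RingHom.codRestrict (algebraMap A L) V hd.1).toAlgebra
      ∀ [IsLocalHom (algebraMap A V)],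
        residue V ⟨w, hw V hd⟩ ^ p = algebraMap (ResidueField A) (ResidueField V) (residue A a) ∧
        LinearIndependent (ResidueField A) fun i : Fin p => residue V ⟨w, hw V hd⟩ ^ (i : ℕ) := by
    intro V hd
    letI : Algebra A V := (RingHom.codRestrict (algebraMap A L) V hd.1).toAlgebra
    intro _
    set ω := residue V ⟨w, hw V hd⟩
    have hω : ω ^ p = algebraMap (ResidueField A) (ResidueField V) (residue A a) := by
      show residue V ⟨w, hw V hd⟩ ^ p = residue V (algebraMap A V a)
      rw [← map_pow]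
      exact Ideal.Quotient.eq.2 ((V.valuation_lt_one_iff _).2 (hv V hd).2)
    have hmin : X ^ p - C (residue A a) = minpoly (ResidueField A) ω := minpoly.eq_of_irreducible_of_monic hirr
      (by rw [map_sub, map_pow, aeval_X, aeval_C, hω, sub_self]) (monic_X_pow_sub_C _ hp.ne_zero)
    have hd' : (minpoly (ResidueField A) ω).natDegree = p := by rw [← hmin, natDegree_X_pow_sub_C]
    exact ⟨hω, (_root_.linearIndependent_pow (K := ResidueField A) ω).comp (Fin.cast hd'.symm) (Fin.cast_injective _)⟩
  have hres : ∀ V, EtRam.Dominates A (algebraMap A L) V → ∀ α : Fin p → A,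
      V.valuation (∑ i : Fin p, algebraMap A L (α i) * w ^ (i : ℕ)) < 1 → ∀ i, α i ∈ maximalIdeal A := by
    intro V hd α hα
    letI : Algebra A V := (RingHom.codRestrict (algebraMap A L) V hd.1).toAlgebra
    haveI : IsLocalHom (algebraMap A V) := ⟨fun b hb => by
      by_contra hb'
      exact (mem_maximalIdeal _).1 ((V.valuation_lt_one_iff _).2 (hd.2 b ((mem_maximalIdeal _).2 hb'))) hb⟩
    have hli := Fintype.linearIndependent_iff.1 (key V hd).2 (fun i => residue A (α i)) ?_
    · exact fun i => (residue_eq_zero_iff _).1 (hli i)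
    have h0 : residue V (∑ i : Fin p, algebraMap A V (α i) * ⟨w, hw V hd⟩ ^ (i : ℕ)) = 0 := by
      refine (residue_eq_zero_iff _).2 ((V.valuation_lt_one_iff _).2 ?_)
      rw [show ((∑ i : Fin p, algebraMap A V (α i) * (⟨w, hw V hd⟩ : V) ^ (i : ℕ) : V) : L) =
        V.subtype (∑ i : Fin p, algebraMap A V (α i) * (⟨w, hw V hd⟩ : V) ^ (i : ℕ)) from rfl, map_sum]
      exact hα
    rw [← h0, map_sum]
    exact Finset.sum_congr rfl fun i _ => by rw [Algebra.smul_def, map_mul, map_pow]; rfl
  refine ⟨finrank_eq_monogenic (K := K) hπ hres hdeg,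
    exists_dominates _ (algebraMap_injective_of_tower A K L),
    unique_monogenic (K := K) hπ hw hres hdeg, fun V hd => ?_⟩
  letI : Algebra A V := (RingHom.codRestrict (algebraMap A L) V hd.1).toAlgebra
  intro _
  obtain ⟨hω, hli⟩ := key V hd
  set ω := residue V ⟨w, hw V hd⟩
  haveI : CharP (ResidueField V) p := charP_of_injective_algebraMap
    (algebraMap (ResidueField A) (ResidueField V)).injective p
  have hex : ∀ x : ResidueField V, ∃ c : Fin p → ResidueField A, x = ∑ i : Fin p, c i • ω ^ (i : ℕ) := by
    intro x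
    obtain ⟨x, rfl⟩ := residue_surjective x
    obtain ⟨α, hα⟩ := (mem_iff_exists_sum_monogenic (K := K) hπ hw hres hdeg hd x).1 x.2
    refine ⟨fun i => residue A (α i), ?_⟩
    rw [show x = ∑ i : Fin p, algebraMap A V (α i) * (⟨w, hw V hd⟩ : V) ^ (i : ℕ) from Subtype.ext (by
      rw [show ((∑ i : Fin p, algebraMap A V (α i) * (⟨w, hw V hd⟩ : V) ^ (i : ℕ) : V) : L) =
        V.subtype (∑ i : Fin p, algebraMap A V (α i) * (⟨w, hw V hd⟩ : V) ^ (i : ℕ)) from rfl, map_sum]
      exact hα), map_sum]
    exact Finset.sum_congr rfl fun i _ => by rw [Algebra.smul_def, map_mul, map_pow]; rfl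
  refine ⟨isWeaklyUnramified_monogenic (K := K) hπ hw hres hdeg V hd, ?_, ?_⟩
  · refine (isPurelyInseparable_iff_pow_mem (ResidueField A) p).2 fun x => ⟨1, ?_⟩
    obtain ⟨c, rfl⟩ := hex x
    rw [pow_one, sum_pow_char]
    refine sum_mem fun i _ => ⟨c i ^ p * residue A a ^ (i : ℕ), ?_⟩
    rw [map_mul, map_pow, map_pow, ← hω, Algebra.smul_def, mul_pow, ← pow_mul, ← pow_mul, mul_comm p]
  · rw [Module.finrank_eq_card_basis (Module.Basis.mk hli fun x _ => ?_), Fintype.card_fin]
    obtain ⟨c, rfl⟩ := hex x
    exact sum_mem fun i _ => Submodule.smul_mem _ _ (Submodule.subset_span ⟨i, rfl⟩)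

end Groth.Agent.EtRam93
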