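import Groth.Agent.EtRam93.Amalgam
import Groth.Agent.WEt93.BaseChangeGen
import Groth.Agent.NagataLib.IntClosure
import Groth.Agent.CompleteNagata.Complete
import Mathlib

/-!
# The Nagata property descends along extensions of DVRs with separable fraction field extension
-/

set_option autoImplicit false
set_option linter.style.haveILetI false

universe u

open TensorProduct IsLocalRing

namespace Groth.Agent.EtRam93

theorem finiteType_fractionRing (B L : Type u) [CommRing B] [IsDomain B] [IsDiscreteValuationRing B] [Field L]
    [Algebra B L] [IsFractionRing B L] : Algebra.FiniteType B L := by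
  obtain ⟨ϖ, hϖ⟩ := IsDiscreteValuationRing.exists_irreducible B
  refine ⟨⟨{(algebraMap B L ϖ)⁻¹}, ?_⟩⟩
  rw [Finset.coe_singleton, eq_top_iff]
  rintro x -
  obtain ⟨a, d, hd, rfl⟩ := IsFractionRing.div_surjective (A := B) x
  obtain ⟨n, u, rfl⟩ := IsDiscreteValuationRing.eq_unit_mul_pow_irreducible (nonZeroDivisors.ne_zero hd) hϖ
  rw [show algebraMap B L a / algebraMap B L (u * ϖ ^ n) = algebraMap B L (a * ↑u⁻¹) * (algebraMap B L ϖ)⁻¹ ^ n by
    have hu : algebraMap B L ↑u * algebraMap B L ↑u⁻¹ = 1 := by rw [← map_mul, u.mul_inv, map_one]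
    rw [map_mul, map_mul, map_pow, div_eq_mul_inv, mul_inv, inv_pow, inv_eq_of_mul_eq_one_right hu]
    ring]
  exact mul_mem (Subalgebra.algebraMap_mem _ _) (pow_mem (Algebra.self_mem_adjoin_singleton B _) n)

theorem isReduced_tensor_of_isSeparable (K L L' : Type u) [Field K] [Field L] [Field L'] [Algebra K L]
    [Algebra K L'] [Algebra.IsSeparable K L] : IsReduced (L ⊗[K] L') := by
  haveI := WEt93.weaklyEtale_of_isSeparable (K := K) L
  haveI : Algebra.WeaklyEtale L' (L' ⊗[K] L) := inferInstance
  haveI : IsReduced (L' ⊗[K] L) := WEtLib.isReduced_of_forall_exists (WEtLib.exists_mul_eq (K := L'))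
  exact isReduced_of_injective (Algebra.TensorProduct.comm K L L') (Algebra.TensorProduct.comm K L L').injective

theorem isN2_of_separable_extDVR (A B K L : Type u) [CommRing A] [IsDomain A] [IsDiscreteValuationRing A]
    [CommRing B] [IsDomain B] [IsDiscreteValuationRing B] [Algebra A B] [IsLocalHom (algebraMap A B)]
    (hinj : Function.Injective (algebraMap A B))
    [Field K] [Field L] [Algebra A K] [IsFractionRing A K] [Algebra B L] [IsFractionRing B L]
    [Algebra K L] [Algebra A L] [IsScalarTower A K L] [IsScalarTower A B L] [Algebra.IsSeparable K L]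
    (hB : CAlg.IsNagata B) : CAlg.IsN2 A := by
  intro L' _ _ _ _ hfin
  let K₀ := FractionRing A
  let e : K₀ ≃ₐ[A] K := IsLocalization.algEquiv (nonZeroDivisors A) K₀ K
  letI : Algebra K₀ L := ((algebraMap K L).comp (e : K₀ →+* K)).toAlgebra
  haveI : IsScalarTower A K₀ L := IsScalarTower.of_algebraMap_eq fun a => by
    show _ = algebraMap K L (e (algebraMap A K₀ a))
    rw [e.commutes, ← IsScalarTower.algebraMap_apply]
  haveI : Algebra.IsSeparable K₀ L :=
    Algebra.IsSeparable.of_equiv_equiv e.symm.toRingEquiv (RingEquiv.refl L) (by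
      ext k
      show algebraMap K L (e (e.symm k)) = algebraMap K L k
      rw [e.apply_symm_apply])
  let X := L ⊗[K₀] L'
  haveI : IsReduced X := isReduced_tensor_of_isSeparable K₀ L L'
  haveI : Module.Finite L X := inferInstance
  haveI := finiteType_fractionRing B L
  haveI : Algebra.FiniteType L X := inferInstance
  haveI : Algebra.FiniteType B X := Algebra.FiniteType.trans (R := B) (S := L) inferInstance inferInstance
  haveI := NagataLib.finite_integralClosure_of_reduced hB X
  haveI := flat_of_injective hinj
  haveI : Module.FaithfullyFlat A B := Module.FaithfullyFlat.of_flat_of_isLocalHom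
  let A' := integralClosure A L'
  haveI : Module.Flat A A' := flat_of_injective (fun a b h => by
    have h' : algebraMap A L' a = algebraMap A L' b := congrArg Subtype.val h
    rw [IsScalarTower.algebraMap_apply A K₀ L', IsScalarTower.algebraMap_apply A K₀ L'] at h'
    exact IsFractionRing.injective A K₀ ((algebraMap K₀ L').injective h'))
  haveI : Module.Flat A L := flat_of_injective (fun a b h => by
    rw [IsScalarTower.algebraMap_apply A B L, IsScalarTower.algebraMap_apply A B L] at h
    exact hinj (IsFractionRing.injective B L h))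
  haveI : TensorProduct.CompatibleSMul A K₀ L L' :=
    IsLocalization.tensorProduct_compatibleSMul (nonZeroDivisors A) K₀ L L'
  haveI : SMulCommClass K₀ B L := ⟨fun k b x => by
    simp only [Algebra.smul_def]; ring⟩
  let φ : B ⊗[A] A' →ₐ[B] X :=
    Algebra.TensorProduct.lift (Algebra.ofId B X)
      (((Algebra.TensorProduct.includeRight : L' →ₐ[K₀] X).restrictScalars A).comp A'.val)
      fun _ _ => .all _ _
  have hφ : ∀ b a, φ (b ⊗ₜ[A] a) = algebraMap B L b ⊗ₜ[K₀] (a : L') := fun b a => by
    rw [Algebra.TensorProduct.lift_tmul, Algebra.ofId_apply, IsScalarTower.algebraMap_apply B L X]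
    simp [X]
  have hinjφ : Function.Injective φ := by
    let ψ : B ⊗[A] A' →ₗ[A] L ⊗[A] L' :=
      TensorProduct.map (IsScalarTower.toAlgHom A B L).toLinearMap A'.val.toLinearMap
    have hψ : Function.Injective ψ := by
      show Function.Injective (TensorProduct.map (IsScalarTower.toAlgHom A B L).toLinearMap A'.val.toLinearMap)
      rw [← LinearMap.lTensor_comp_rTensor]
      exact (Module.Flat.lTensor_preserves_injective_linearMap _ Subtype.val_injective).comp
        (Module.Flat.rTensor_preserves_injective_linearMap (M := A') (IsScalarTower.toAlgHom A B L).toLinearMap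
          (IsFractionRing.injective B L))
    let ε := Algebra.TensorProduct.equivOfCompatibleSMul A K₀ A L L'
    have hcomp : ∀ y, ε.symm (ψ y) = φ y := fun y => by
      induction y using TensorProduct.induction_on with
      | zero => rw [map_zero, map_zero, map_zero]
      | tmul b a => rw [hφ]; rfl
      | add y z hy hz => rw [map_add, map_add, map_add, hy, hz]
    intro y z h
    rw [← hcomp y, ← hcomp z] at h
    exact hψ (ε.symm.injective h)
  have hmem : ∀ y, φ y ∈ integralClosure B X := fun y => by
    induction y using TensorProduct.induction_on with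
    | zero => rw [map_zero]; exact zero_mem _
    | tmul b a =>
      rw [Algebra.TensorProduct.lift_tmul, Algebra.ofId_apply]
      exact mul_mem (Subalgebra.algebraMap_mem _ _)
        ((a.2.map ((Algebra.TensorProduct.includeRight : L' →ₐ[K₀] X).restrictScalars A)).tower_top)
    | add y z hy hz => rw [map_add]; exact add_mem hy hz
  haveI : IsNoetherian B (integralClosure B X) := isNoetherian_of_isNoetherianRing_of_finite B _
  haveI : Module.Finite B (B ⊗[A] A') :=
    Module.Finite.of_injective (φ.codRestrict _ hmem).toLinearMap fun y z h => hinjφ (congrArg Subtype.val h)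
  exact Module.Finite.of_finite_tensorProduct_of_faithfullyFlat B

theorem isNagata_of_separable_extDVR (A B K L : Type u) [CommRing A] [IsDomain A] [IsDiscreteValuationRing A]
    [CommRing B] [IsDomain B] [IsDiscreteValuationRing B] [Algebra A B] [IsLocalHom (algebraMap A B)]
    (hinj : Function.Injective (algebraMap A B))
    [Field K] [Field L] [Algebra A K] [IsFractionRing A K] [Algebra B L] [IsFractionRing B L]
    [Algebra K L] [Algebra A L] [IsScalarTower A K L] [IsScalarTower A B L] [Algebra.IsSeparable K L]
    (hB : CAlg.IsNagata B) : CAlg.IsNagata A := by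
  refine ⟨inferInstance, fun p hp => ?_⟩
  rcases eq_or_ne p ⊥ with rfl | h
  · exact CompleteNagata.isN2_of_finite (Ideal.Quotient.mk (⊥ : Ideal A))
      ((injective_iff_map_eq_zero _).2 fun x hx => Ideal.mem_bot.1 (Ideal.Quotient.eq_zero_iff_mem.1 hx))
      (RingHom.Finite.of_surjective _ Ideal.Quotient.mk_surjective) (isN2_of_separable_extDVR A B K L hinj hB)
  · haveI := hp.isMaximal h
    letI := Ideal.Quotient.field p
    exact CompleteNagata.isN2_field (A ⧸ p)

end Groth.Agent.EtRam93
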