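import Groth.Agent.EtRam93.ArtinSchreier
import Mathlib

/-!
# The equation `P z = ξ` with `w ^ p P t = (1 + w t) ^ p - 1`, `w = 1 - ζ`, over a mixed characteristic DVR
-/

set_option autoImplicit false
set_option linter.style.haveILetI false
set_option linter.unusedSectionVars false

universe u

open IsLocalRing Polynomial

namespace Groth.Agent.EtRam93

variable {A K L : Type u} [CommRing A] [IsDomain A] [IsDiscreteValuationRing A] [Field K] [Algebra A K]
  [IsFractionRing A K] [Field L] [Algebra K L] [Algebra A L] [IsScalarTower A K L]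
  {p : ℕ} {ζ : A} {P : A[X]}

theorem isPrimitiveRoot_of_aeval (hp : p.Prime) [CharZero A] (hζ : aeval ζ (cyclotomic p ℤ) = 0) :
    IsPrimitiveRoot ζ p := by
  haveI : NeZero (p : A) := ⟨Nat.cast_ne_zero.2 hp.ne_zero⟩
  rw [← isRoot_cyclotomic_iff, IsRoot, ← map_cyclotomic_int p A, eval_map]
  exact hζ

section Poly

variable (hp : p.Prime) [CharP (ResidueField A) p] (hζ : IsPrimitiveRoot ζ p)
  (hP : C ((1 - ζ) ^ p) * P = (1 + C (1 - ζ) * X) ^ p - 1)

include hp hζ in
theorem one_sub_ne_zero : (1 - ζ : A) ≠ 0 := fun h => hζ.ne_one hp.one_lt (sub_eq_zero.1 h).symm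

include hp hζ in
theorem residue_zeta : residue A ζ = 1 := by
  haveI := Fact.mk hp
  have h : residue A ζ ^ p = 1 := by rw [← map_pow, hζ.pow_eq_one, map_one]
  have h2 : (residue A ζ - 1) ^ p = 0 := by rw [sub_pow_char, h, one_pow, sub_self]
  exact sub_eq_zero.1 (pow_eq_zero_iff hp.ne_zero |>.1 h2)

include hp hζ hP in
theorem kummerPoly_monic : P.Monic ∧ P.natDegree = p := by
  have hw := one_sub_ne_zero hp hζ
  have hlin : (1 + C (1 - ζ) * X : A[X]).natDegree = 1 := by
    rw [add_comm, ← C_1, natDegree_linear hw]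
  have hdeg : ((1 + C (1 - ζ) * X : A[X]) ^ p - 1).natDegree = p := by
    rw [← C_1, natDegree_sub_C, natDegree_pow, C_1, hlin, mul_one]
  have hP0 : P ≠ 0 := fun h => by
    rw [h, mul_zero] at hP
    rw [← hP] at hdeg
    exact hp.ne_zero (hdeg.symm.trans natDegree_zero)
  have hd : P.natDegree = p := by rw [← natDegree_C_mul (pow_ne_zero p hw), hP, hdeg]
  refine ⟨?_, hd⟩
  have h := congrArg (coeff · p) hP
  simp only [coeff_C_mul, coeff_sub, coeff_one, hp.ne_zero, if_false, sub_zero] at h
  have hc : ((1 + C (1 - ζ) * X : A[X]) ^ p).coeff p = (1 - ζ) ^ p := by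
    have h1 := coeff_pow_mul_natDegree (1 + C (1 - ζ) * X : A[X]) p
    rw [hlin, mul_one] at h1
    rw [h1, add_comm, ← C_1, leadingCoeff_linear hw]
  rw [hc] at h
  rw [Monic, leadingCoeff, hd]
  exact (mul_eq_left₀ (pow_ne_zero p hw)).1 h

include hp hζ hP in
theorem kummerPoly_residue : P.map (residue A) = X ^ p - X := by
  classical
  haveI := Fact.mk hp
  obtain ⟨hm, hd⟩ := kummerPoly_monic hp hζ hP
  have hw := one_sub_ne_zero hp hζ
  let r : ℕ → A := fun i => -∑ j ∈ Finset.range i, ζ ^ j
  have hr : ∀ i, P.eval (r i) = 0 := fun i => by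
    have h := congrArg (eval (r i)) hP
    simp only [eval_mul, eval_C, eval_sub, eval_pow, eval_add, eval_one, eval_X] at h
    rw [show 1 + (1 - ζ) * r i = ζ ^ i by simp only [r, mul_neg, mul_neg_geom_sum]; ring,
      ← pow_mul, mul_comm i p, pow_mul, hζ.pow_eq_one, one_pow, sub_self] at h
    exact (mul_eq_zero.1 h).resolve_left (pow_ne_zero p hw)
  have hr' : ∀ i : ZMod p, (P.map (residue A)).eval (ZMod.castHom dvd_rfl (ResidueField A) i) = 0 := fun i => by
    have : ZMod.castHom dvd_rfl (ResidueField A) i = residue A (r (-i).val) := by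
      simp only [r, map_neg, map_sum, map_pow, residue_zeta hp hζ, one_pow, Finset.sum_const, Finset.card_range,
        nsmul_eq_mul, mul_one]
      rw [← map_natCast (ZMod.castHom dvd_rfl (ResidueField A)), ZMod.natCast_val, ZMod.cast_id', id, ← map_neg,
        neg_neg]
    rw [this, eval_map_apply, hr, map_zero]
  have hdeg1 : (P.map (residue A)).natDegree = p := (hm.natDegree_map _).trans hd
  have hm2 : ((X : (ResidueField A)[X]) ^ p - X).Monic := monic_X_pow_sub (degree_X.trans_lt (by exact_mod_cast hp.one_lt))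
  have hdeg2 : ((X : (ResidueField A)[X]) ^ p - X).natDegree = p :=
    FiniteField.X_pow_card_sub_X_natDegree_eq _ hp.one_lt
  refine sub_eq_zero.1 (eq_zero_of_natDegree_lt_card_of_eval_eq_zero _
    (ZMod.castHom dvd_rfl (ResidueField A)).injective (fun i => ?_) ?_)
  · rw [eval_sub, hr', eval_sub, eval_pow, eval_X, ← map_pow, ZMod.pow_card, sub_self, sub_self]
  · rw [ZMod.card]
    rcases eq_or_ne (P.map (residue A) - (X ^ p - X)) 0 with h | h
    · rw [h, natDegree_zero]; exact hp.pos
    rw [natDegree_lt_iff_degree_lt h]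
    refine lt_of_lt_of_le (degree_sub_lt ?_ (hm.map (residue A)).ne_zero
      (by rw [(hm.map (residue A)).leadingCoeff, hm2.leadingCoeff])) ?_
    · rw [degree_eq_natDegree (hm.map (residue A)).ne_zero, degree_eq_natDegree hm2.ne_zero, hdeg1, hdeg2]
    · exact_mod_cast (degree_eq_natDegree (hm.map (residue A)).ne_zero).le.trans_eq (congrArg Nat.cast hdeg1)

include hP in
theorem kummerPoly_aeval {S : Type u} [CommRing S] [Algebra A S] (x : S) :
    algebraMap A S (1 - ζ) ^ p * aeval x P = (1 + algebraMap A S (1 - ζ) * x) ^ p - 1 := by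
  have h := congrArg (aeval x) hP
  simpa only [map_mul, aeval_C, map_pow, map_sub, map_add, map_one, aeval_X] using h

end Poly

section Field

variable (hp : p.Prime) [CharZero K] {ζK : K} (hζ : IsPrimitiveRoot ζK p) {y : L} {u : K}
  (hy : y ^ p = algebraMap K L u) (hgen : IntermediateField.adjoin K {y} = ⊤)

include hp hy hgen in
theorem kummer_finite : FiniteDimensional K L := by
  have hint : IsIntegral K y := ⟨X ^ p - C u, monic_X_pow_sub_C u hp.ne_zero, by simp [hy]⟩
  haveI := IntermediateField.adjoin.finiteDimensional hint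
  rw [hgen] at this
  exact Module.Finite.equiv IntermediateField.topEquiv.toLinearEquiv

include hp hζ hy hgen in
theorem kummer_field : IsGalois K L ∧ (Module.finrank K L = 1 ∨ Module.finrank K L = p) ∧
    Module.finrank K L ≤ p := by
  classical
  haveI := kummer_finite hp hy hgen
  haveI : NeZero p := ⟨hp.ne_zero⟩
  have hint : IsIntegral K y := Algebra.IsIntegral.isIntegral y
  have hfr := IntermediateField.adjoin.finrank hint
  rw [hgen, IntermediateField.finrank_top'] at hfr
  by_cases hb : ∃ b : K, b ^ p = u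
  · obtain ⟨b, hb⟩ := hb
    obtain ⟨k, hk⟩ : ∃ k : K, algebraMap K L k = y := by
      rcases eq_or_ne b 0 with rfl | hb0
      · rw [zero_pow hp.ne_zero] at hb
        rw [← hb, map_zero, pow_eq_zero_iff hp.ne_zero] at hy
        exact ⟨0, by rw [hy, map_zero]⟩
      · have hb0' : algebraMap K L b ≠ 0 := (_root_.map_ne_zero _).2 hb0
        obtain ⟨i, -, hi⟩ := (hζ.map_of_injective (algebraMap K L).injective).eq_pow_of_pow_eq_one
          (ξ := y / algebraMap K L b) (by rw [div_pow, hy, ← map_pow, hb, div_self (by rw [← hb, map_pow]; exact pow_ne_zero _ hb0')])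
        exact ⟨ζK ^ i * b, by rw [map_mul, map_pow, hi, div_mul_cancel₀ _ hb0']⟩
    have h1 : Module.finrank K L = 1 := by rw [hfr, ← hk, minpoly.eq_X_sub_C, natDegree_X_sub_C]
    refine ⟨?_, Or.inl h1, h1.le.trans hp.one_le⟩
    refine IsGalois.of_algEquiv (AlgEquiv.ofBijective (Algebra.ofId K L) ⟨(algebraMap K L).injective, fun x => ?_⟩)
    have hx : x ∈ IntermediateField.adjoin K {y} := hgen ▸ IntermediateField.mem_top
    rw [← hk, show IntermediateField.adjoin K {algebraMap K L k} = ⊥ from
      IntermediateField.adjoin_simple_eq_bot_iff.2 (IntermediateField.algebraMap_mem _ k)] at hx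
    exact IntermediateField.mem_bot.1 hx
  · have hirr : Irreducible (X ^ p - C u) := X_pow_sub_C_irreducible_of_prime hp fun b h => hb ⟨b, h⟩
    have hmin := minpoly.eq_of_irreducible_of_monic hirr (by simp [hy]) (monic_X_pow_sub_C u hp.ne_zero)
      (x := y)
    rw [← hmin, natDegree_X_pow_sub_C] at hfr
    refine ⟨?_, Or.inr hfr, hfr.le⟩
    haveI : (X ^ p - C u : K[X]).IsSplittingField K L := by
      refine ⟨?_, eq_top_iff.2 ?_⟩
      · rw [Polynomial.map_sub, Polynomial.map_pow, map_X, map_C]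
        exact X_pow_sub_C_splits_of_isPrimitiveRoot (hζ.map_of_injective (algebraMap K L).injective) hy
      · have h : (IntermediateField.adjoin K {y}).toSubalgebra = Algebra.adjoin K {y} :=
          IntermediateField.adjoin_simple_toSubalgebra_of_isAlgebraic hint.isAlgebraic
        rw [hgen, IntermediateField.top_toSubalgebra] at h
        rw [h]
        refine Algebra.adjoin_mono (Set.singleton_subset_iff.2 ?_)
        rw [mem_rootSet_of_ne (monic_X_pow_sub_C u hp.ne_zero).ne_zero]
        simp [hy]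
    exact IsGalois.of_separable_splitting_field hirr.separable

end Field

/-- The classification. -/
theorem kummerType [CharZero K] (hp : p.Prime) [CharP (ResidueField A) p] (hζ' : aeval ζ (cyclotomic p ℤ) = 0)
    (hP : C ((1 - ζ) ^ p) * P = (1 + C (1 - ζ) * X) ^ p - 1) (π : A) (hπ : maximalIdeal A = Ideal.span {π})
    (ξ : K) (z : L) (hz : aeval z P = algebraMap K L ξ) (hgen : IntermediateField.adjoin K {z} = ⊤) :
    IsGalois K L ∧ FourCases A K L p ∧
      ((∃ a : A, algebraMap A K a = ξ) →
        Module.finrank K L = 1 ∨ (EtRam.IsUnramifiedExt A (algebraMap A L) ∧ Module.finrank K L = p)) ∧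
      (∀ (n : ℕ) (a : Aˣ), 0 < n → ¬ p ∣ n → ξ * algebraMap A K π ^ n = algebraMap A K a →
        EtRam.IsTotallyRamified A (algebraMap A L) ∧ Module.finrank K L = p) ∧
      (∀ (n : ℕ) (a : A), 0 < n → p ∣ n → (∀ r : A, residue A a ≠ residue A r ^ p) →
          ξ * algebraMap A K π ^ n = algebraMap A K a → InsepCase A L p) := by
  haveI := Fact.mk hp
  haveI : CharZero A := ⟨fun i j h => Nat.cast_injective (R := K) (by
    rw [← map_natCast (algebraMap A K), ← map_natCast (algebraMap A K), h])⟩
  have hζ := isPrimitiveRoot_of_aeval hp hζ'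
  have hζK : IsPrimitiveRoot (algebraMap A K ζ) p := hζ.map_of_injective (IsFractionRing.injective A K)
  set w : A := 1 - ζ with hwdef
  have hw0 : w ≠ 0 := one_sub_ne_zero hp hζ
  have hwK : algebraMap A K w ≠ 0 := fun h => hw0 (IsFractionRing.injective A K (h.trans (map_zero _).symm))
  have hwm : w ∈ maximalIdeal A := by
    rw [← residue_eq_zero_iff, map_sub, map_one, residue_zeta hp hζ, sub_self]
  obtain ⟨hPm, hPd⟩ := kummerPoly_monic hp hζ hP
  have hPres := kummerPoly_residue hp hζ hP
  have hirr : Irreducible π := (IsDiscreteValuationRing.irreducible_iff_uniformizer π).2 hπ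
  have hπK : algebraMap A K π ≠ 0 := fun h => hirr.ne_zero (IsFractionRing.injective A K (h.trans (map_zero _).symm))
  -- the generator `1 + w z` of a Kummer extension
  have hy : ∀ (ξ : K) (z : L), aeval z P = algebraMap K L ξ →
      (1 + algebraMap A L w * z) ^ p = algebraMap K L (1 + algebraMap A K w ^ p * ξ) := fun ξ z hz => by
    rw [map_add, map_one, map_mul, map_pow, ← IsScalarTower.algebraMap_apply, ← hz, kummerPoly_aeval hP]
    ring
  have hygen : ∀ z : L, IntermediateField.adjoin K {z} = ⊤ →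
      IntermediateField.adjoin K {1 + algebraMap A L w * z} = ⊤ := fun z hgen => by
    refine eq_top_iff.2 (hgen ▸ IntermediateField.adjoin_simple_le_iff.2 ?_)
    set F := IntermediateField.adjoin K {1 + algebraMap A L w * z}
    have h := div_mem (sub_mem (IntermediateField.mem_adjoin_simple_self K (1 + algebraMap A L w * z)) (one_mem F))
      (F.algebraMap_mem (algebraMap A K w))
    rwa [add_sub_cancel_left, ← IsScalarTower.algebraMap_apply, mul_div_cancel_left₀] at h
    rw [IsScalarTower.algebraMap_apply A K L]; exact (_root_.map_ne_zero _).2 hwK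
  have hfield : ∀ (ξ : K) (z : L), aeval z P = algebraMap K L ξ → IntermediateField.adjoin K {z} = ⊤ →
      IsGalois K L ∧ (Module.finrank K L = 1 ∨ Module.finrank K L = p) ∧ Module.finrank K L ≤ p :=
    fun ξ z hz hgen => kummer_field hp hζK (hy ξ z hz) (hygen z hgen)
  haveI := kummer_finite hp (hy ξ z hz) (hygen z hgen)
  have hpole : ∀ (ξ : K) (x : L) (n : ℕ) (a : A), aeval x P = algebraMap K L ξ →
      ξ * algebraMap A K π ^ n = algebraMap A K a → aeval x P * algebraMap A L π ^ n = algebraMap A L a :=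
    fun ξ x n a hx h => by
      rw [hx, IsScalarTower.algebraMap_apply A K L π, IsScalarTower.algebraMap_apply A K L a, ← map_pow,
        ← map_mul, h]
  have hA : ∀ (ξ : K) (x : L) (a : A), aeval x P = algebraMap K L ξ → IntermediateField.adjoin K {x} = ⊤ →
      algebraMap A K a = ξ →
      Module.finrank K L = 1 ∨ (EtRam.IsUnramifiedExt A (algebraMap A L) ∧ Module.finrank K L = p) := by
    intro ξ x a hx hgen ha
    rcases (hfield ξ x hx hgen).2.1 with h | h
    · exact Or.inl h
    · exact Or.inr ⟨isUnramifiedExt_of_integral (K := K) hPm hp hPd hPres hgen (a := a) (by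
        rw [hx, IsScalarTower.algebraMap_apply A K L a, ha]), h⟩
  have hdeg : Module.finrank K L ≤ p := (hfield ξ z hz hgen).2.2
  refine ⟨(hfield ξ z hz hgen).1, ?_, fun ⟨a, ha⟩ => hA ξ z a hz hgen ha,
    fun n a hn hpn h => isTotallyRamified_of_pole hPm hp hPd hπ hdeg hn hpn a.isUnit (hpole ξ z n a hz h),
    fun n a hn hpn hr h => (inseparable_of_pole hPm hp hPd hπ hdeg hn hpn hr (hpole ξ z n a hz h)).2⟩
  -- multiplying `1 + w z` by a constant
  have hscale : ∀ (ξ : K) (x : L) (c : K), aeval x P = algebraMap K L ξ → IntermediateField.adjoin K {x} = ⊤ →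
      c ≠ 0 → ∃ (ξ' : K) (x' : L), aeval x' P = algebraMap K L ξ' ∧ IntermediateField.adjoin K {x'} = ⊤ ∧
        1 + algebraMap A K w ^ p * ξ' = c ^ p * (1 + algebraMap A K w ^ p * ξ) := by
    intro ξ x c hx hgen hc
    have hwL : algebraMap A L w ≠ 0 := by rw [IsScalarTower.algebraMap_apply A K L]; exact (_root_.map_ne_zero _).2 hwK
    let x' : L := (algebraMap K L c * (1 + algebraMap A L w * x) - 1) / algebraMap A L w
    let ξ' : K := (c ^ p * (1 + algebraMap A K w ^ p * ξ) - 1) / algebraMap A K w ^ p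
    refine ⟨ξ', x', ?_, ?_, ?_⟩
    · refine mul_left_cancel₀ (pow_ne_zero p hwL) ?_
      rw [kummerPoly_aeval hP, mul_div_cancel₀ _ hwL, add_sub_cancel, mul_pow, hy ξ x hx, map_div₀,
        map_sub (algebraMap K L) (c ^ p * _), map_one, map_mul (algebraMap K L) (c ^ p),
        map_pow (algebraMap K L) c, map_pow (algebraMap K L) (algebraMap A K w), ← IsScalarTower.algebraMap_apply,
        mul_div_cancel₀ _ (pow_ne_zero p hwL)]
    · refine eq_top_iff.2 (hgen ▸ IntermediateField.adjoin_simple_le_iff.2 ?_)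
      set F := IntermediateField.adjoin K {x'}
      have hw' : algebraMap A L w ∈ F := by rw [IsScalarTower.algebraMap_apply A K L]; exact F.algebraMap_mem _
      have h : ((x' * algebraMap A L w + 1) / algebraMap K L c - 1) / algebraMap A L w ∈ F :=
        div_mem (sub_mem (div_mem (add_mem (mul_mem (IntermediateField.mem_adjoin_simple_self K x') hw')
          (one_mem F)) (F.algebraMap_mem c)) (one_mem F)) hw'
      rwa [div_mul_cancel₀ _ hwL, sub_add_cancel, mul_div_cancel_left₀ _ ((_root_.map_ne_zero _).2 hc),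
        add_sub_cancel_left, mul_div_cancel_left₀ _ hwL] at h
    · rw [mul_div_cancel₀ _ (pow_ne_zero p hwK)]; ring
  -- small poles
  have main : ∀ (n : ℕ) (ξ : K) (x : L) (a δ : A), aeval x P = algebraMap K L ξ →
      IntermediateField.adjoin K {x} = ⊤ → δ ∈ maximalIdeal A → w ^ p = δ * π ^ n →
      ξ * algebraMap A K π ^ n = algebraMap A K a → FourCases A K L p := by
    intro n
    induction n with
    | zero =>
      intro ξ x a δ hx hgen _ _ h
      rw [pow_zero, mul_one] at h
      exact (hA ξ x a hx hgen h.symm).imp_right Or.inl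
    | succ n ih =>
      intro ξ x a δ hx hgen hδ hwδ h
      have hwδ' : w ^ p = δ * π * π ^ n := by rw [hwδ, pow_succ']; ring
      by_cases hu : IsUnit a
      swap
      · obtain ⟨b, rfl⟩ := Ideal.mem_span_singleton'.1 (hπ ▸ (mem_maximalIdeal a).2 hu)
        refine ih ξ x b _ hx hgen (Ideal.mul_mem_right _ _ hδ) hwδ' (mul_right_cancel₀ hπK ?_)
        rw [mul_assoc, ← pow_succ, h, map_mul]
      have hdeg := (hfield ξ x hx hgen).2.2
      by_cases hpn : p ∣ n + 1
      swap
      · exact Or.inr (Or.inr (Or.inl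
          (isTotallyRamified_of_pole hPm hp hPd hπ hdeg n.succ_pos hpn hu (hpole ξ x _ a hx h))))
      by_cases hr : ∀ r : A, residue A a ≠ residue A r ^ p
      · exact Or.inr (Or.inr (Or.inr
          (inseparable_of_pole hPm hp hPd hπ hdeg n.succ_pos hpn hr (hpole ξ x _ a hx h)).2))
      push Not at hr
      obtain ⟨r, hr⟩ := hr
      obtain ⟨b, hb⟩ := Ideal.mem_span_singleton'.1 (hπ ▸ (Ideal.Quotient.eq.1 (hr.trans (map_pow _ r p).symm)))
      obtain ⟨m, hm⟩ := hpn
      have hm0 : 0 < m := Nat.pos_of_ne_zero fun h0 => by rw [h0, mul_zero] at hm; exact n.succ_ne_zero hm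
      let c₀ : K := algebraMap A K r / algebraMap A K π ^ m
      let s : A := ∑ i ∈ Finset.range p, P.coeff i * r ^ i * π ^ (m * (p - i) - 1)
      have hPc : aeval c₀ P * algebraMap A K π ^ (n + 1) = algebraMap A K (r ^ p + π * s) := by
        have e : P = X ^ p + ∑ i ∈ Finset.range p, C (P.coeff i) * X ^ i := by
          conv_lhs => rw [hPm.as_sum, hPd]
        have h1 : aeval c₀ P = c₀ ^ p + ∑ i ∈ Finset.range p, algebraMap A K (P.coeff i) * c₀ ^ i := by
          conv_lhs => rw [e]
          simp only [map_add, map_sum, map_mul, map_pow, aeval_X, aeval_C]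
        rw [h1, hm, add_mul, div_pow, ← pow_mul, mul_comm m p, div_mul_cancel₀ _ (pow_ne_zero _ hπK),
          Finset.sum_mul, map_add, map_pow, map_mul, map_sum, Finset.mul_sum]
        congr 1
        refine Finset.sum_congr rfl fun i hi => ?_
        have hi' := Finset.mem_range.1 hi
        have hpos : 0 < m * (p - i) := Nat.mul_pos hm0 (by omega)
        have hsplit : p * m = m * i + (1 + (m * (p - i) - 1)) := by
          rw [Nat.add_sub_cancel' hpos, ← mul_add, Nat.add_sub_cancel' hi'.le, mul_comm]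
        rw [map_mul, map_mul, map_pow, map_pow, hsplit, pow_add, pow_add, pow_one, div_pow, ← pow_mul]
        field_simp
      set v : A := 1 + δ * (r ^ p + π * s) with hv
      have hvu : IsUnit v := by
        by_contra hnu
        have : (1 : A) ∈ maximalIdeal A := by
          have := Ideal.sub_mem _ ((mem_maximalIdeal v).2 hnu) (Ideal.mul_mem_right (r ^ p + π * s) _ hδ)
          rwa [hv, add_sub_cancel_right] at this
        exact (mem_maximalIdeal _).1 this isUnit_one
      have hvK : algebraMap A K v ≠ 0 := fun h0 => hvu.ne_zero (IsFractionRing.injective A K (h0.trans (map_zero _).symm))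
      have hwδK : algebraMap A K w ^ p = algebraMap A K δ * algebraMap A K π ^ (n + 1) := by
        rw [← map_pow, hwδ, map_mul, map_pow]
      have hc1 : (1 + algebraMap A K w * c₀) ^ p = algebraMap A K v := by
        have := kummerPoly_aeval hP (S := K) c₀
        rw [hv, map_add, map_one, map_mul, ← hPc, eq_add_of_sub_eq this.symm, hwδK]
        ring
      have hc1' : 1 + algebraMap A K w * c₀ ≠ 0 := fun h0 => hvK (by rw [← hc1, h0, zero_pow hp.ne_zero])
      obtain ⟨ξ', x', hx', hgen', hξ'⟩ := hscale ξ x _ hx hgen (inv_ne_zero hc1')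
      rw [inv_pow, hc1, eq_inv_mul_iff_mul_eq₀ hvK] at hξ'
      refine ih ξ' x' ((b - s) * ↑hvu.unit⁻¹) _ hx' hgen' (Ideal.mul_mem_right _ _ hδ) hwδ'
        (mul_right_cancel₀ hπK ?_)
      have hkey : algebraMap A K v * ξ' = ξ - aeval c₀ P := by
        refine mul_left_cancel₀ (pow_ne_zero p hwK) ?_
        have h3 := kummerPoly_aeval hP (S := K) c₀
        rw [← hwdef, hc1] at h3
        linear_combination hξ' + h3
      have hvi : algebraMap A K v * algebraMap A K ↑hvu.unit⁻¹ = 1 := by
        rw [← map_mul, IsUnit.mul_val_inv, map_one]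
      refine mul_left_cancel₀ hvK ?_
      rw [mul_assoc ξ', ← pow_succ, ← mul_assoc, hkey, sub_mul, h, hPc, map_mul, map_sub, map_add]
      rw [show algebraMap A K v * ((algebraMap A K b - algebraMap A K s) * algebraMap A K ↑hvu.unit⁻¹ * algebraMap A K π) =
          (algebraMap A K v * algebraMap A K ↑hvu.unit⁻¹) * ((algebraMap A K b - algebraMap A K s) * algebraMap A K π) by ring,
        hvi, one_mul, map_mul, sub_mul, ← map_mul _ b, hb, map_sub]
      ring
  -- arbitrary right hand sides
  by_cases hu0 : 1 + algebraMap A K w ^ p * ξ = 0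
  · refine Or.inl ?_
    have h := hy ξ z hz
    rw [hu0, map_zero, pow_eq_zero_iff hp.ne_zero] at h
    have hg := hygen z hgen
    rw [h, IntermediateField.adjoin_zero] at hg
    rw [← IntermediateField.finrank_top', ← hg, IntermediateField.finrank_bot]
  obtain ⟨α, β, hβ, hαβ⟩ := IsFractionRing.div_surjective (A := A) (1 + algebraMap A K w ^ p * ξ)
  have hβK : algebraMap A K β ≠ 0 := IsFractionRing.to_map_ne_zero_of_mem_nonZeroDivisors hβ
  have hu1 : algebraMap A K β ^ p * (1 + algebraMap A K w ^ p * ξ) = algebraMap A K (α * β ^ (p - 1)) := by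
    rw [← hαβ, map_mul, map_pow]
    conv_lhs => rw [← Nat.sub_add_cancel hp.one_le, pow_succ]
    field_simp
  have hne : α * β ^ (p - 1) ≠ 0 := fun h0 => by
    rw [h0, map_zero] at hu1
    exact mul_ne_zero (pow_ne_zero p hβK) hu0 hu1
  obtain ⟨k, ν, hν⟩ := IsDiscreteValuationRing.eq_unit_mul_pow_irreducible hne hirr
  obtain ⟨l, ε, hε⟩ := IsDiscreteValuationRing.eq_unit_mul_pow_irreducible hw0 hirr
  have hl : l ≠ 0 := fun h0 => (mem_maximalIdeal _).1 hwm (by rw [hε, h0, pow_zero, mul_one]; exact ε.isUnit)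
  have hεK : algebraMap A K w = algebraMap A K ε * algebraMap A K π ^ l := by rw [hε, map_mul, map_pow]
  have hεi : algebraMap A K ε * algebraMap A K ↑ε⁻¹ = 1 := by rw [← map_mul, ε.mul_inv, map_one]
  -- from `1 + w ^ p ξ'` to `ξ'`
  have hback : ∀ (ξ' : K) (d : ℕ) (μ : A), (1 + algebraMap A K w ^ p * ξ') * algebraMap A K π ^ d = algebraMap A K μ →
      ξ' * algebraMap A K π ^ (d + p * l) = algebraMap A K ((μ - π ^ d) * ↑ε⁻¹ ^ p) := fun ξ' d μ h => by
    rw [map_mul, map_sub, ← h, map_pow, map_pow, hεK, mul_pow, ← pow_mul, mul_comm l p, pow_add]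
    have h1 : algebraMap A K ε ^ p * algebraMap A K ↑ε⁻¹ ^ p = 1 := by rw [← mul_pow, hεi, one_pow]
    linear_combination -(ξ' * algebraMap A K π ^ d * algebraMap A K π ^ (p * l)) * h1
  by_cases hpk : p ∣ k
  swap
  · have hc : algebraMap A K β / algebraMap A K π ^ (k / p + 1) ≠ 0 := div_ne_zero hβK (pow_ne_zero _ hπK)
    obtain ⟨ξ', x', hx', hgen', hξ'⟩ := hscale ξ z _ hz hgen hc
    have hd := Nat.div_add_mod k p
    have hmod : 0 < k % p := Nat.pos_of_ne_zero fun h0 => hpk (Nat.dvd_of_mod_eq_zero h0)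
    have hlt := Nat.mod_lt k hp.pos
    have hexp : (k / p + 1) * p = k + (p - k % p) := by
      rw [add_mul, one_mul, mul_comm]; omega
    have hμ := hback ξ' (p - k % p) ν (by
      rw [hξ', div_pow, div_mul_eq_mul_div, hu1, hν, map_mul, map_pow, ← pow_mul, hexp, pow_add]
      field_simp)
    refine Or.inr (Or.inr (Or.inl (isTotallyRamified_of_pole hPm hp hPd hπ (hfield ξ' x' hx' hgen').2.2
      (Nat.lt_of_lt_of_le (Nat.sub_pos_of_lt hlt) (Nat.le_add_right _ (p * l))) ?_ ?_ (hpole ξ' x' _ _ hx' hμ))))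
    · rw [Nat.dvd_add_left (dvd_mul_right p l)]
      exact fun h => (Nat.not_dvd_of_pos_of_lt (Nat.sub_pos_of_lt hlt) (by omega)) h
    · refine IsUnit.mul ?_ (ε⁻¹.isUnit.pow p)
      by_contra hnu
      have h1 : π ^ (p - k % p) ∈ maximalIdeal A :=
        Ideal.pow_mem_of_mem _ (hπ ▸ Ideal.mem_span_singleton_self π) _ (Nat.sub_pos_of_lt hlt)
      have h2 := Ideal.add_mem _ ((mem_maximalIdeal _).2 hnu) h1
      rw [sub_add_cancel] at h2
      exact (mem_maximalIdeal _).1 h2 ν.isUnit
  obtain ⟨q, rfl⟩ := hpk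
  have hc : algebraMap A K β / algebraMap A K π ^ q ≠ 0 := div_ne_zero hβK (pow_ne_zero _ hπK)
  obtain ⟨ξ', x', hx', hgen', hξ'⟩ := hscale ξ z _ hz hgen hc
  rw [div_pow, div_mul_eq_mul_div, hu1, hν, map_mul, map_pow, ← pow_mul, mul_comm q p,
    mul_div_assoc, div_self (pow_ne_zero _ hπK), mul_one] at hξ'
  have hpl : 0 < 0 + p * l := by simpa using Nat.mul_pos hp.pos (Nat.pos_of_ne_zero hl)
  by_cases hr : ∀ r : A, residue A (ν : A) ≠ residue A r ^ p
  · have hμ := hback ξ' 0 ν (by rw [pow_zero, mul_one, hξ'])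
    refine Or.inr (Or.inr (Or.inr (inseparable_of_pole hPm hp hPd hπ (hfield ξ' x' hx' hgen').2.2 hpl
      (by rw [zero_add]; exact dvd_mul_right p l) (fun r hr' => hr (1 + r * ε) ?_) (hpole ξ' x' _ _ hx' hμ)).2))
    rw [map_mul, map_pow, map_sub, pow_zero, map_one] at hr'
    rw [map_add, map_one, add_pow_char, one_pow, map_mul, mul_pow, ← hr', mul_assoc, ← mul_pow, ← map_mul,
      ε.inv_mul, map_one, one_pow, mul_one, add_sub_cancel]
  push Not at hr
  obtain ⟨r, hr⟩ := hr
  have hru : IsUnit r := by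
    by_contra h
    have : residue A (ν : A) = 0 := by rw [hr, (residue_eq_zero_iff r).2 ((mem_maximalIdeal r).2 h), zero_pow hp.ne_zero]
    exact (mem_maximalIdeal _).1 ((residue_eq_zero_iff _).1 this) ν.isUnit
  have hriK : algebraMap A K ↑hru.unit⁻¹ ≠ 0 := fun h =>
    (hru.unit⁻¹).ne_zero (IsFractionRing.injective A K (h.trans (map_zero _).symm))
  obtain ⟨ξ'', x'', hx'', hgen'', hξ''⟩ := hscale ξ' x' _ hx' hgen' hriK
  rw [hξ', ← map_pow (algebraMap A K) (↑hru.unit⁻¹ : A), ← map_mul] at hξ''
  obtain ⟨b, hb⟩ := Ideal.mem_span_singleton'.1 (hπ ▸ (Ideal.Quotient.eq.1 (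
    show residue A ((↑hru.unit⁻¹ : A) ^ p * (ν : A)) = residue A 1 by
      rw [map_mul, map_pow, hr, ← mul_pow, ← map_mul, IsUnit.val_inv_mul, map_one, one_pow])))
  have hμ := hback ξ'' 0 _ (by rw [pow_zero, mul_one, hξ''])
  obtain ⟨N, hN⟩ := Nat.exists_eq_add_of_lt hpl
  refine main N ξ'' x'' (b * ↑ε⁻¹ ^ p) (ε ^ p * π) hx'' hgen''
    (Ideal.mul_mem_left _ _ (hπ ▸ Ideal.mem_span_singleton_self π)) ?_ (mul_right_cancel₀ hπK ?_)
  · rw [hε, mul_pow, ← pow_mul, mul_comm l p, mul_assoc, ← pow_succ', show p * l = N + 1 by omega]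
  · rw [mul_assoc, ← pow_succ, show N + 1 = 0 + p * l by omega, hμ, pow_zero, ← hb, map_mul, map_mul, map_mul]
    ring

end Groth.Agent.EtRam93
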