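import Groth.Agent.EtRam93.RootOfUnif
import Mathlib

/-!
# Extensions generated by an element with independent residues

If every valuation subring `V` of `L` dominating the DVR `A` contains `w`, the residues of
`1, w, …, w^(q-1)` are independent over the residue field of `A` and `[L : K] ≤ q`, then `[L : K] = q` and the
only such `V` is the `A`-span of `1, w, …, w^(q-1)`, which is weakly unramified over `A`.
-/

set_option autoImplicit false
set_option linter.style.haveILetI false
set_option linter.unusedSectionVars false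

universe u

open IsLocalRing Polynomial

namespace Groth.Agent.EtRam93

variable {A K L : Type u} [CommRing A] [IsDomain A] [IsDiscreteValuationRing A] [Field K] [Algebra A K]
  [IsFractionRing A K] [Field L] [Algebra K L] [Algebra A L] [IsScalarTower A K L]
  {π : A} {w : L} {q : ℕ} (hπ : maximalIdeal A = Ideal.span {π}) (hq : 0 < q)
  (hw : ∀ V, EtRam.Dominates A (algebraMap A L) V → w ∈ V)
  (hres : ∀ V, EtRam.Dominates A (algebraMap A L) V → ∀ α : Fin q → A,
    V.valuation (∑ i : Fin q, algebraMap A L (α i) * w ^ (i : ℕ)) < 1 → ∀ i, α i ∈ maximalIdeal A)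

include hπ in
theorem uniformizer_ne_zero (hinj : Function.Injective (algebraMap A L)) : algebraMap A L π ≠ 0 := fun h =>
  ((IsDiscreteValuationRing.irreducible_iff_uniformizer π).2 hπ).ne_zero (hinj (h.trans (map_zero _).symm))

include hπ hres in
theorem mem_pow_of_sum (hinj : Function.Injective (algebraMap A L)) {V : ValuationSubring L} (hd : EtRam.Dominates A (algebraMap A L) V) :
    ∀ (N : ℕ) (α : Fin q → A),
      V.valuation (∑ i : Fin q, algebraMap A L (α i) * w ^ (i : ℕ)) ≤ V.valuation (algebraMap A L π) ^ N →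
      ∀ i, α i ∈ Ideal.span {π ^ N} := by
  have hπ1 := hd.2 π (hπ ▸ Ideal.mem_span_singleton_self π)
  intro N
  induction N with
  | zero => exact fun α _ i => by rw [pow_zero, Ideal.span_singleton_one]; trivial
  | succ N ih =>
    intro α hα i
    have h1 := ih α (hα.trans (pow_le_pow_right_of_le_one' hπ1.le N.le_succ))
    choose β hβ using fun j => Ideal.mem_span_singleton'.1 (h1 j)
    have hsum : (∑ j : Fin q, algebraMap A L (α j) * w ^ (j : ℕ)) =
        algebraMap A L π ^ N * ∑ j : Fin q, algebraMap A L (β j) * w ^ (j : ℕ) := by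
      rw [Finset.mul_sum]
      exact Finset.sum_congr rfl fun j _ => by rw [← hβ j, map_mul, map_pow]; ring
    rw [hsum, map_mul, map_pow, pow_succ] at hα
    have hlt := (le_of_mul_le_mul_left hα (pow_pos (zero_lt_iff.2 ((Valuation.ne_zero_iff _).2
      (uniformizer_ne_zero hπ hinj))) N)).trans_lt hπ1
    have h2 := hres V hd β hlt i
    rw [hπ, Ideal.mem_span_singleton'] at h2
    obtain ⟨γ, hγ⟩ := h2
    exact Ideal.mem_span_singleton'.2 ⟨γ, by rw [← hβ i, ← hγ, pow_succ']; ring⟩

variable [FiniteDimensional K L]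

include hπ hres in
theorem linearIndependent_monogenic : LinearIndependent K fun i : Fin q => w ^ (i : ℕ) := by
  classical
  obtain ⟨V, hd⟩ := exists_dominates (algebraMap A L) (algebraMap_injective_of_tower A K L)
  rw [← LinearIndependent.iff_fractionRing (R := A) (K := K), Fintype.linearIndependent_iff]
  intro α hα i
  have hmem : ∀ N, α i ∈ Ideal.span {π ^ N} := fun N => mem_pow_of_sum hπ hres (algebraMap_injective_of_tower A K L) hd N α (by
    rw [show (∑ j : Fin q, algebraMap A L (α j) * w ^ (j : ℕ)) = 0 by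
      rw [← hα]; simp only [Algebra.smul_def], map_zero]
    exact zero_le) i
  have hK : ⨅ N : ℕ, maximalIdeal A ^ N = ⊥ :=
    Ideal.iInf_pow_eq_bot_of_isLocalRing _ (maximalIdeal.isMaximal A).ne_top
  rw [← Ideal.mem_bot, ← hK, Ideal.mem_iInf]
  intro N
  rw [hπ, Ideal.span_singleton_pow]
  exact hmem N

variable (hdeg : Module.finrank K L ≤ q)

include hπ hres hdeg in
theorem finrank_eq_monogenic : Module.finrank K L = q := by
  refine le_antisymm hdeg ?_
  have := (linearIndependent_monogenic (K := K) hπ hres).fintype_card_le_finrank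
  rwa [Fintype.card_fin] at this

include hπ hw hres hdeg in
theorem mem_iff_exists_sum_monogenic {V : ValuationSubring L} (hd : EtRam.Dominates A (algebraMap A L) V) (x : L) :
    x ∈ V ↔ ∃ α : Fin q → A, x = ∑ i : Fin q, algebraMap A L (α i) * w ^ (i : ℕ) := by
  classical
  have hirr : Irreducible π := (IsDiscreteValuationRing.irreducible_iff_uniformizer π).2 hπ
  constructor
  · intro hx
    have hli := linearIndependent_monogenic (K := K) hπ hres
    have hfr := finrank_eq_monogenic (K := K) hπ hres hdeg
    haveI : Nonempty (Fin q) := ⟨⟨0, Nat.pos_of_ne_zero fun h => (Module.finrank_pos (R := K) (M := L)).ne' (hfr.trans h)⟩⟩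
    have hspan := hli.span_eq_top_of_card_eq_finrank' ((Fintype.card_fin q).trans hfr.symm)
    obtain ⟨c, hc⟩ := (Submodule.mem_span_range_iff_exists_fun K).1
      (hspan ▸ Submodule.mem_top : x ∈ Submodule.span K (Set.range fun i : Fin q => w ^ (i : ℕ)))
    obtain ⟨⟨d, hd0⟩, hα⟩ := IsLocalization.exist_integer_multiples (nonZeroDivisors A) Finset.univ c
    choose α hα using fun i => hα i (Finset.mem_univ i)
    obtain ⟨N, u, rfl⟩ := IsDiscreteValuationRing.eq_unit_mul_pow_irreducible (nonZeroDivisors.ne_zero hd0) hirr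
    have hsum : algebraMap A L (u * π ^ N) * x = ∑ i : Fin q, algebraMap A L (α i) * w ^ (i : ℕ) := by
      conv_lhs => rw [← hc, Finset.mul_sum]
      refine Finset.sum_congr rfl fun i _ => ?_
      rw [IsScalarTower.algebraMap_apply A K L (α i), hα i, Algebra.smul_def (R := K),
        Algebra.smul_def (R := A), map_mul (algebraMap K L), ← IsScalarTower.algebraMap_apply A K L,
        mul_assoc]
    have hle : ∀ i, α i ∈ Ideal.span {π ^ N} := fun i => mem_pow_of_sum hπ hres (algebraMap_injective_of_tower A K L) hd N α (by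
      rw [← hsum, map_mul, map_mul, map_mul, valuation_unit hd, one_mul, map_pow, map_pow]
      exact mul_le_of_le_one_right' ((V.valuation_le_one_iff x).2 hx)) i
    choose β hβ using fun i => Ideal.mem_span_singleton'.1 (hle i)
    have hne : algebraMap A L (π ^ N) ≠ 0 := by
      rw [map_pow]; exact pow_ne_zero N (uniformizer_ne_zero hπ (algebraMap_injective_of_tower A K L))
    refine ⟨fun i => ↑u⁻¹ * β i, mul_left_cancel₀ hne ?_⟩
    have h2 : algebraMap A L ↑u⁻¹ * (algebraMap A L (u * π ^ N) * x) = algebraMap A L (π ^ N) * x := by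
      rw [← mul_assoc, ← map_mul, Units.inv_mul_cancel_left]
    rw [← h2, hsum, Finset.mul_sum, Finset.mul_sum]
    refine Finset.sum_congr rfl fun i _ => ?_
    rw [← hβ i, map_mul, map_mul]
    ring
  · rintro ⟨α, rfl⟩
    exact sum_mem fun i _ => mul_mem (hd.1 _) (pow_mem (hw V hd) _)

include hπ hw hres hdeg in
theorem unique_monogenic (V V' : ValuationSubring L) (hV : EtRam.Dominates A (algebraMap A L) V)
    (hV' : EtRam.Dominates A (algebraMap A L) V') : V = V' := by
  ext x
  rw [mem_iff_exists_sum_monogenic (K := K) hπ hw hres hdeg hV,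
    mem_iff_exists_sum_monogenic (K := K) hπ hw hres hdeg hV']

include hπ hw hres hdeg in
theorem isWeaklyUnramified_monogenic (V : ValuationSubring L) (hd : EtRam.Dominates A (algebraMap A L) V) :
    letI : Algebra A V := ((algebraMap A L).codRestrict V hd.1).toAlgebra
    EtRam.IsWeaklyUnramified A V := by
  letI : Algebra A V := ((algebraMap A L).codRestrict V hd.1).toAlgebra
  show (maximalIdeal A).map (algebraMap A V) = maximalIdeal V
  refine le_antisymm (Ideal.map_le_iff_le_comap.2 fun a ha => (V.valuation_lt_one_iff _).2 (hd.2 a ha))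
    fun x hx => ?_
  obtain ⟨α, hα⟩ := (mem_iff_exists_sum_monogenic (K := K) hπ hw hres hdeg hd x).1 x.2
  have hm := hres V hd α (hα ▸ (V.valuation_lt_one_iff x).1 hx)
  have hx' : x = ∑ i : Fin q, algebraMap A V (α i) * (⟨w, hw V hd⟩ : V) ^ (i : ℕ) := by
    refine Subtype.ext (hα.trans ?_)
    rw [show ((∑ i : Fin q, algebraMap A V (α i) * (⟨w, hw V hd⟩ : V) ^ (i : ℕ) : V) : L) =
      V.subtype (∑ i : Fin q, algebraMap A V (α i) * (⟨w, hw V hd⟩ : V) ^ (i : ℕ)) from rfl, map_sum]
    rfl
  rw [hx']
  exact sum_mem fun i _ => Ideal.mul_mem_right _ _ (Ideal.mem_map_of_mem _ (hm i))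

end Groth.Agent.EtRam93
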