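import Groth.Prelude.Def_EtRam
import Mathlib

/-!
# Extensions containing a root of a uniformizer, up to units

If every valuation subring of `L` dominating the DVR `A` gives an element `t` the value with
`v t ^ q = v π`, and `[L : K] ≤ q`, then `[L : K] = q`, `L/K` is totally ramified and the valuation
ring consists of the `A`-combinations of `1, t, …, t^(q-1)`.
-/

set_option autoImplicit false
set_option linter.style.haveILetI false

universe u

open IsLocalRing Polynomial

namespace Groth.Agent.EtRam93

variable {A K L : Type u} [CommRing A] [IsDomain A] [IsDiscreteValuationRing A] [Field K] [Algebra A K]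
  [IsFractionRing A K] [Field L] [Algebra K L] [Algebra A L] [IsScalarTower A K L]

theorem algebraMap_injective_of_tower (A K L : Type u) [CommRing A] [Field K] [Algebra A K]
    [IsFractionRing A K] [Field L] [Algebra K L] [Algebra A L] [IsScalarTower A K L] : Function.Injective (algebraMap A L) := by
  rw [IsScalarTower.algebraMap_eq A K L]
  exact (algebraMap K L).injective.comp (IsFractionRing.injective A K)

theorem exists_dominates {A L : Type u} [CommRing A] [IsLocalRing A] [Field L] (g : A →+* L)
    (hg : Function.Injective g) : ∃ V : ValuationSubring L, EtRam.Dominates A g V := by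
  have hI : (maximalIdeal A).map g.rangeRestrict ≠ ⊤ := fun htop => by
    obtain ⟨a, ha, hae⟩ := (Ideal.mem_map_iff_of_surjective _ g.rangeRestrict_surjective).1
      ((Ideal.eq_top_iff_one _).1 htop)
    have : a = 1 := hg ((congrArg Subtype.val hae).trans (map_one g).symm)
    exact (mem_maximalIdeal _).1 (this ▸ ha) isUnit_one
  obtain ⟨V, hV, hm⟩ := Ideal.image_subset_nonunits_valuationSubring _ hI
  exact ⟨V, fun a => hV ⟨a, rfl⟩, fun a ha => hm ⟨g.rangeRestrict a, Ideal.mem_map_of_mem _ ha, rfl⟩⟩

theorem valuation_unit {g : A →+* L} {V : ValuationSubring L} (hd : EtRam.Dominates A g V) (u : Aˣ) :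
    V.valuation (g u) = 1 := by
  refine le_antisymm ((V.valuation_le_one_iff _).2 (hd.1 _)) ?_
  have h := congrArg V.valuation (show g u * g (u⁻¹ : Aˣ) = 1 by rw [← map_mul, u.mul_inv, map_one])
  rw [map_mul, map_one] at h
  exact h.symm.le.trans (mul_le_of_le_one_right' ((V.valuation_le_one_iff _).2 (hd.1 _)))

variable {π : A} {t : L} {q : ℕ}

/-- The structure of one valuation subring. -/
theorem le_pow_of_sum (hinj : Function.Injective (algebraMap A L)) (hπ : maximalIdeal A = Ideal.span {π}) (hq : 0 < q) {V : ValuationSubring L}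
    (hd : EtRam.Dominates A (algebraMap A L) V) (ht : V.valuation t ^ q = V.valuation (algebraMap A L π))
    (α : Fin q → A) (N : ℕ)
    (h : V.valuation (∑ i : Fin q, algebraMap A L (α i) * t ^ (i : ℕ)) ≤ V.valuation t ^ (q * N)) (i : Fin q) :
    α i ∈ Ideal.span {π ^ N} := by
  classical
  have hirr : Irreducible π := (IsDiscreteValuationRing.irreducible_iff_uniformizer π).2 hπ
  have hπ0 : algebraMap A L π ≠ 0 := fun h =>
    hirr.ne_zero (hinj (h.trans (map_zero _).symm))
  have hv0 : 0 < V.valuation t := by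
    refine zero_lt_iff.2 fun h0 => ?_
    rw [h0, zero_pow hq.ne'] at ht
    exact (Valuation.ne_zero_iff _).2 hπ0 ht.symm
  have hv1 : V.valuation t < 1 := by
    by_contra hc
    exact not_lt.2 (ht ▸ one_le_pow₀ (not_lt.1 hc)) (hd.2 π (hπ ▸ Ideal.mem_span_singleton_self π))
  have hterm : ∀ j : Fin q, α j ≠ 0 → ∃ m, (∀ M, M ≤ m → α j ∈ Ideal.span {π ^ M}) ∧
      V.valuation (algebraMap A L (α j) * t ^ (j : ℕ)) = V.valuation t ^ (q * m + j) := fun j hj => by
    obtain ⟨m, u, hu⟩ := IsDiscreteValuationRing.eq_unit_mul_pow_irreducible hj hirr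
    refine ⟨m, fun M hM => ?_, ?_⟩
    · rw [hu, Ideal.mem_span_singleton]
      exact Dvd.dvd.mul_left (pow_dvd_pow π hM) _
    · rw [hu, map_mul, map_mul, map_mul, valuation_unit hd, one_mul, map_pow, map_pow, ← ht, ← pow_mul,
        map_pow, ← pow_add]
  by_contra hi
  have hi0 : α i ≠ 0 := fun h0 => hi (h0 ▸ zero_mem _)
  let F : Fin q → L := fun j => algebraMap A L (α j) * t ^ (j : ℕ)
  obtain ⟨j, hj, hmax⟩ := Finset.exists_max_image Finset.univ (fun j => V.valuation (F j))
    ⟨i, Finset.mem_univ i⟩
  obtain ⟨mi, hmi, hvi⟩ := hterm i hi0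
  have hj0 : α j ≠ 0 := fun h0 => by
    have h1 := hmax i (Finset.mem_univ i)
    simp only [F, h0, map_zero, zero_mul, hvi, le_zero_iff] at h1
    exact (pow_pos hv0 _).ne' h1
  obtain ⟨mj, hmj, hvj⟩ := hterm j hj0
  have hlt : ∀ k ∈ (Finset.univ : Finset (Fin q)) \ {j}, V.valuation (F k) < V.valuation (F j) := by
    intro k hk
    simp only [Finset.mem_sdiff, Finset.mem_univ, Finset.mem_singleton, true_and] at hk
    refine lt_of_le_of_ne (hmax k (Finset.mem_univ k)) fun he => ?_
    by_cases hk0 : α k = 0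
    · simp only [F, hk0, map_zero, zero_mul, hvj] at he
      exact (pow_pos hv0 _).ne he
    obtain ⟨mk, -, hvk⟩ := hterm k hk0
    simp only [F, hvk, hvj] at he
    have hexp : q * mk + k = q * mj + j := (pow_right_strictAnti₀ hv0 hv1).injective he
    apply hk
    have := congrArg (· % q) hexp
    simp only [Nat.mul_add_mod, Nat.mod_eq_of_lt k.2, Nat.mod_eq_of_lt j.2] at this
    exact Fin.ext this
  have hsum : V.valuation (∑ k, F k) = V.valuation (F j) := Valuation.map_sum_eq_of_lt _ (Finset.mem_univ j) hlt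
  have h1 : V.valuation (F i) ≤ V.valuation t ^ (q * N) := (hmax i (Finset.mem_univ i)).trans (hsum ▸ h)
  simp only [F, hvi] at h1
  have h2 := (pow_right_strictAnti₀ hv0 hv1).le_iff_ge.1 h1
  refine hi (hmi N ?_)
  by_contra hc
  have : q * (mi + 1) ≤ q * N := Nat.mul_le_mul_left q (not_le.1 hc)
  have := i.2
  rw [Nat.mul_succ] at *
  omega

variable [FiniteDimensional K L] (hπ : maximalIdeal A = Ideal.span {π}) (hq : 0 < q)
  (ht : ∀ V, EtRam.Dominates A (algebraMap A L) V → V.valuation t ^ q = V.valuation (algebraMap A L π))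
  (hdeg : Module.finrank K L ≤ q)

include hπ hq ht in
theorem linearIndependent_pow : LinearIndependent K fun i : Fin q => t ^ (i : ℕ) := by
  classical
  obtain ⟨V, hd⟩ := exists_dominates (algebraMap A L) (algebraMap_injective_of_tower A K L)
  rw [← LinearIndependent.iff_fractionRing (R := A) (K := K), Fintype.linearIndependent_iff]
  intro α hα i
  have hmem : ∀ N, α i ∈ Ideal.span {π ^ N} := fun N => le_pow_of_sum (algebraMap_injective_of_tower A K L) hπ hq hd (ht V hd) α N (by
    rw [show (∑ j : Fin q, algebraMap A L (α j) * t ^ (j : ℕ)) = 0 by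
      rw [← hα]; simp only [Algebra.smul_def], map_zero]
    exact zero_le) i
  by_contra h0
  have hirr : Irreducible π := (IsDiscreteValuationRing.irreducible_iff_uniformizer π).2 hπ
  obtain ⟨m, u, hu⟩ := IsDiscreteValuationRing.eq_unit_mul_pow_irreducible h0 hirr
  have h1 := hmem (m + 1)
  rw [hu, Ideal.mem_span_singleton, pow_succ'] at h1
  exact hirr.not_isUnit (isUnit_of_dvd_one ((mul_dvd_mul_iff_right (pow_ne_zero m hirr.ne_zero)).1
    (by rw [one_mul]; exact (Units.dvd_mul_left.1 h1))))

include hπ hq ht hdeg in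
theorem finrank_eq_of_root : Module.finrank K L = q := by
  refine le_antisymm hdeg ?_
  have := (linearIndependent_pow (K := K) hπ hq ht).fintype_card_le_finrank
  rwa [Fintype.card_fin] at this

include hπ hq ht hdeg in
theorem mem_iff_exists_sum {V : ValuationSubring L} (hd : EtRam.Dominates A (algebraMap A L) V) (x : L) :
    x ∈ V ↔ ∃ α : Fin q → A, x = ∑ i : Fin q, algebraMap A L (α i) * t ^ (i : ℕ) := by
  classical
  haveI : Nonempty (Fin q) := ⟨⟨0, hq⟩⟩
  have hirr : Irreducible π := (IsDiscreteValuationRing.irreducible_iff_uniformizer π).2 hπ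
  have hv1 : V.valuation t ≤ 1 := by
    by_contra hc
    exact not_lt.2 (ht V hd ▸ one_le_pow₀ (not_le.1 hc).le) (hd.2 π (hπ ▸ Ideal.mem_span_singleton_self π))
  constructor
  · intro hx
    have hli := linearIndependent_pow (K := K) hπ hq ht
    have hfr := finrank_eq_of_root (K := K) hπ hq ht hdeg
    have hspan := hli.span_eq_top_of_card_eq_finrank' ((Fintype.card_fin q).trans hfr.symm)
    obtain ⟨c, hc⟩ := (Submodule.mem_span_range_iff_exists_fun K).1
      (hspan ▸ Submodule.mem_top : x ∈ Submodule.span K (Set.range fun i : Fin q => t ^ (i : ℕ)))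
    obtain ⟨⟨d, hd0⟩, hα⟩ := IsLocalization.exist_integer_multiples (nonZeroDivisors A) Finset.univ c
    choose α hα using fun i => hα i (Finset.mem_univ i)
    obtain ⟨N, u, rfl⟩ := IsDiscreteValuationRing.eq_unit_mul_pow_irreducible (nonZeroDivisors.ne_zero hd0) hirr
    have hsum : algebraMap A L (u * π ^ N) * x = ∑ i : Fin q, algebraMap A L (α i) * t ^ (i : ℕ) := by
      conv_lhs => rw [← hc, Finset.mul_sum]
      refine Finset.sum_congr rfl fun i _ => ?_
      rw [IsScalarTower.algebraMap_apply A K L (α i), hα i, Algebra.smul_def (R := K),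
        Algebra.smul_def (R := A), map_mul (algebraMap K L), ← IsScalarTower.algebraMap_apply A K L,
        mul_assoc]
    have hle : ∀ i, α i ∈ Ideal.span {π ^ N} := fun i => le_pow_of_sum (algebraMap_injective_of_tower A K L) hπ hq hd (ht V hd) α N (by
      rw [← hsum, map_mul, map_mul, map_mul, valuation_unit hd, one_mul, map_pow, map_pow, ← ht V hd, ← pow_mul]
      exact mul_le_of_le_one_right' ((V.valuation_le_one_iff x).2 hx)) i
    choose β hβ using fun i => Ideal.mem_span_singleton'.1 (hle i)
    have hne : algebraMap A L (π ^ N) ≠ 0 := fun h =>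
      pow_ne_zero N hirr.ne_zero (algebraMap_injective_of_tower A K L (h.trans (map_zero _).symm))
    refine ⟨fun i => ↑u⁻¹ * β i, mul_left_cancel₀ hne ?_⟩
    have h2 : algebraMap A L ↑u⁻¹ * (algebraMap A L (u * π ^ N) * x) = algebraMap A L (π ^ N) * x := by
      rw [← mul_assoc, ← map_mul, Units.inv_mul_cancel_left]
    rw [← h2, hsum, Finset.mul_sum, Finset.mul_sum]
    refine Finset.sum_congr rfl fun i _ => ?_
    rw [← hβ i, map_mul, map_mul]
    ring
  · rintro ⟨α, rfl⟩
    exact sum_mem fun i _ => mul_mem (hd.1 _) (pow_mem ((V.valuation_le_one_iff t).1 hv1) _)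

include hπ hq ht hdeg in
theorem isTotallyRamified_of_root : EtRam.IsTotallyRamified A (algebraMap A L) := by
  refine ⟨exists_dominates _ (algebraMap_injective_of_tower A K L), fun V V' hV hV' => ?_, fun V hd r => ?_⟩
  · ext x
    rw [mem_iff_exists_sum (K := K) hπ hq ht hdeg hV, mem_iff_exists_sum (K := K) hπ hq ht hdeg hV']
  · obtain ⟨x, rfl⟩ := residue_surjective r
    obtain ⟨α, hα⟩ := (mem_iff_exists_sum (K := K) hπ hq ht hdeg hd x).1 x.2
    refine ⟨α ⟨0, hq⟩, Ideal.Quotient.eq.2 ?_⟩
    have ht1 : V.valuation t < 1 := by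
      by_contra hc
      exact not_lt.2 (ht V hd ▸ one_le_pow₀ (not_lt.1 hc)) (hd.2 π (hπ ▸ Ideal.mem_span_singleton_self π))
    refine (V.valuation_lt_one_iff _).2 ?_
    show V.valuation (algebraMap A L (α ⟨0, hq⟩) - (x : L)) < 1
    rw [hα, ← Finset.add_sum_erase _ _ (Finset.mem_univ (⟨0, hq⟩ : Fin q)), pow_zero, mul_one,
      sub_add_cancel_left, Valuation.map_neg]
    refine Valuation.map_sum_lt _ one_ne_zero fun i hi => ?_
    rw [map_mul, map_pow]
    have hi0 : (i : ℕ) ≠ 0 := fun h => (Finset.mem_erase.1 hi).1 (Fin.ext h)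
    exact lt_of_le_of_lt (mul_le_of_le_one_left' ((V.valuation_le_one_iff _).2 (hd.1 _)))
      (pow_lt_one₀ zero_le ht1 hi0)

include hπ hq ht hdeg in
theorem mem_integralClosure_of_root {V : ValuationSubring L} (hd : EtRam.Dominates A (algebraMap A L) V)
    (htint : IsIntegral A t) {x : L} (hx : x ∈ V) : x ∈ integralClosure A L := by
  obtain ⟨α, rfl⟩ := (mem_iff_exists_sum (K := K) hπ hq ht hdeg hd x).1 hx
  exact sum_mem fun i _ => mul_mem (Subalgebra.algebraMap_mem _ _) (pow_mem htint _)

end Groth.Agent.EtRam93
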