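import Groth.Agent.EtRam93.Amalgam
import Groth.Agent.WEt93.BaseChangeGen
import Groth.Agent.GeomField.GlobalFunctions
import Groth.Prelude.Def_EtRam
import Mathlib

/-!
# Descending formal smoothness along a purely inseparable extension of valuation rings
-/

set_option autoImplicit false
set_option linter.style.haveILetI false
set_option linter.unusedSectionVars false

universe u

open TensorProduct IsLocalRing Polynomial

namespace Groth.Agent.EtRam93

theorem flat_of_injective' {B C : Type u} [CommRing B] [IsDomain B] [IsBezout B] [CommRing C]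
    [IsDomain C] [Algebra B C] (hinj : Function.Injective (algebraMap B C)) : Module.Flat B C := by
  rw [Module.Flat.flat_iff_torsion_eq_bot_of_isBezout, eq_bot_iff]
  rintro x ⟨⟨r, hr⟩, hx⟩
  simp only [Submonoid.smul_def, Algebra.smul_def, mul_eq_zero] at hx
  rw [Submodule.mem_bot]
  exact hx.resolve_left fun h => nonZeroDivisors.ne_zero hr (hinj (h.trans (map_zero _).symm))

/-- A separable element whose `p ^ e`th power lies in a subfield lies there. -/
theorem mem_of_isSeparable_of_pow_mem {F Ω : Type u} [Field F] [Field Ω] [Algebra F Ω] (E : IntermediateField F Ω)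
    (p : ℕ) [ExpChar Ω p] (e : ℕ) (y : Ω) (hy : IsSeparable E y) (hyq : y ^ p ^ e ∈ E) : y ∈ E := by
  haveI : ExpChar E p :=
    (RingHom.expChar_iff (algebraMap E Ω) (algebraMap E Ω).injective p).2 inferInstance
  have h := IntermediateField.adjoin_simple_eq_adjoin_pow_expChar_pow_of_isSeparable (F := E) (E := Ω) hy p e
  have hy' : y ∈ IntermediateField.adjoin E {y} := IntermediateField.mem_adjoin_simple_self E y
  rw [h, show IntermediateField.adjoin E {y ^ p ^ e} = ⊥ from
    IntermediateField.adjoin_simple_eq_bot_iff.2 (IntermediateField.mem_bot.2 ⟨⟨_, hyq⟩, rfl⟩)] at hy'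
  obtain ⟨c, hc⟩ := IntermediateField.mem_bot.1 hy'
  rw [← hc]; exact c.2

/-- Coordinates of `1 ⊗ x` in the span of the image of a subspace. -/
theorem mem_of_tmul_mem_adjoin {k L Q : Type u} [Field k] [Field L] [Algebra k L] [CommRing Q] [Algebra k Q]
    (E : Subalgebra k Q) (x : Q)
    (h : (1 : L) ⊗ₜ[k] x ∈ Algebra.adjoin L ((Algebra.TensorProduct.includeRight : Q →ₐ[k] L ⊗[k] Q) '' (E : Set Q))) :
    x ∈ E := by
  let M := (Algebra.TensorProduct.map (AlgHom.id L L) E.val).range
  have hle : Algebra.adjoin L ((Algebra.TensorProduct.includeRight : Q →ₐ[k] L ⊗[k] Q) '' (E : Set Q)) ≤ M :=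
    Algebra.adjoin_le (by rintro _ ⟨e, he, rfl⟩; exact ⟨1 ⊗ₜ ⟨e, he⟩, rfl⟩)
  obtain ⟨z, hz⟩ := hle h
  let π := (Subalgebra.toSubmodule E).mkQ
  have h0 : π.lTensor L ((1 : L) ⊗ₜ[k] x) = 0 := by
    rw [← hz]
    clear hz
    induction z using TensorProduct.induction_on with
    | zero => simp
    | tmul l e =>
      show l ⊗ₜ π (e : Q) = 0
      rw [show π (e : Q) = 0 from (Submodule.Quotient.mk_eq_zero _).2 e.2, TensorProduct.tmul_zero]
    | add a b ha hb => rw [map_add, map_add, ha, hb, add_zero]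
  rw [LinearMap.lTensor_tmul] at h0
  obtain ⟨φ, hφ⟩ := (Algebra.linearMap k L).exists_leftInverse_of_injective
    (LinearMap.ker_eq_bot.2 (algebraMap k L).injective)
  have h1 := congrArg ((TensorProduct.lid k _).toLinearMap.comp (φ.rTensor _)) h0
  have hφ1 : φ 1 = 1 := by simpa using LinearMap.congr_fun hφ 1
  simp only [LinearMap.comp_apply, LinearMap.rTensor_tmul, LinearEquiv.coe_toLinearMap, TensorProduct.lid_tmul,
    hφ1, one_smul, map_zero] at h1
  exact (Submodule.Quotient.mk_eq_zero _).1 h1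

theorem isSeparable_of_residual {k₃ k₂ Q κ' F : Type u} [Field k₃] [Field k₂] [Algebra k₃ k₂] [CommRing Q]
    [Algebra k₃ Q] [Field F] [Algebra k₃ F] [Field κ'] [Algebra k₂ κ'] [Algebra.IsSeparable k₂ κ']
    (χ : κ' →ₐ[k₂] k₂ ⊗[k₃] Q) {z : κ'} {x : Q} (hz : χ z = 1 ⊗ₜ x) (ρ : Q →ₐ[k₃] F) {y : F} (hy : ρ x = y) :
    IsSeparable k₃ y := by
  have h1 : (1 : k₂) ⊗ₜ[k₃] x ∈ WEt93.sepElems k₂ (k₂ ⊗[k₃] Q) :=
    hz ▸ WEt93.isSeparable_map χ (Algebra.IsSeparable.isSeparable k₂ z)
  rw [WEt93.sepElems_baseChange k₂] at h1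
  exact hy ▸ WEt93.isSeparable_map ρ (mem_of_tmul_mem_adjoin (WEt93.sepElems k₃ Q) x h1)

/-- Factor a ring homomorphism through the residue field, as an algebra homomorphism. -/
def residueLift {R k S : Type u} [CommRing R] [IsLocalRing R] [CommRing k] [CommRing S] [Algebra k (ResidueField R)]
    [Algebra k S] (Φ : R →+* S) (h : ∀ y ∈ maximalIdeal R, Φ y = 0)
    (hk : ∀ r, Ideal.Quotient.lift (maximalIdeal R) Φ h (algebraMap k (ResidueField R) r) = algebraMap k S r) :
    ResidueField R →ₐ[k] S :=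
  { toRingHom := Ideal.Quotient.lift (maximalIdeal R) Φ h, commutes' := hk }

theorem residueLift_residue {R k S : Type u} [CommRing R] [IsLocalRing R] [CommRing k] [CommRing S]
    [Algebra k (ResidueField R)] [Algebra k S] (Φ : R →+* S) (h : ∀ y ∈ maximalIdeal R, Φ y = 0)
    (hk : ∀ r, Ideal.Quotient.lift (maximalIdeal R) Φ h (algebraMap k (ResidueField R) r) = algebraMap k S r)
    (y : R) : residueLift Φ h hk (residue R y) = Φ y := rfl

theorem isSeparable_of_residual' {k₃ k₂ Q R F : Type u} [Field k₃] [Field k₂] [Algebra k₃ k₂] [CommRing Q]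
    [Algebra k₃ Q] [Field F] [Algebra k₃ F] [CommRing R] [IsLocalRing R] [Algebra k₂ (ResidueField R)]
    [Algebra.IsSeparable k₂ (ResidueField R)] (Φ : R →+* k₂ ⊗[k₃] Q) (h : ∀ y ∈ maximalIdeal R, Φ y = 0)
    (hk : ∀ r, Ideal.Quotient.lift (maximalIdeal R) Φ h (algebraMap k₂ (ResidueField R) r) = algebraMap k₂ _ r)
    {z : R} {x : Q} (hz : Φ z = 1 ⊗ₜ x) (ρ : Q →ₐ[k₃] F) {y : F} (hy : ρ x = y) : IsSeparable k₃ y :=
  isSeparable_of_residual (residueLift Φ h hk) ((residueLift_residue Φ h hk z).trans hz) ρ hy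

theorem gr_of_isSeparable (k F : Type u) [Field k] [Field F] [Algebra k F] [Algebra.IsSeparable k F] :
    Algebra.IsGeometricallyReduced k F := by
  rw [Algebra.isGeometricallyReduced_field_iff]
  haveI := WEt93.weaklyEtale_of_isSeparable (K := k) F
  haveI : Algebra.WeaklyEtale (AlgebraicClosure k) (AlgebraicClosure k ⊗[k] F) := inferInstance
  exact WEtLib.isReduced_of_forall_exists (WEtLib.exists_mul_eq (K := AlgebraicClosure k))

/-- The residue extension of an algebraic extension is algebraic. -/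
theorem isIntegral_residue {K₂ M : Type u} [Field K₂] [Field M] [Algebra K₂ M] [Algebra.IsAlgebraic K₂ M]
    (W : ValuationSubring M) :
    letI := (ResidueField.map (EtRam.inclOfComap W (algebraMap K₂ M))).toAlgebra
    Algebra.IsIntegral (ResidueField (W.comap (algebraMap K₂ M))) (ResidueField W) := by
  letI := (ResidueField.map (EtRam.inclOfComap W (algebraMap K₂ M))).toAlgebra
  refine ⟨fun x => isAlgebraic_iff_isIntegral.1 ?_⟩
  obtain ⟨x, rfl⟩ := residue_surjective x
  obtain ⟨P, hP0, hP⟩ := Algebra.IsAlgebraic.isAlgebraic (R := K₂) (x : M)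
  obtain ⟨j, hj, hmax⟩ := Finset.exists_max_image P.support (fun i => (W.comap (algebraMap K₂ M)).valuation (P.coeff i))
    (support_nonempty.2 hP0)
  have hj0 : P.coeff j ≠ 0 := mem_support_iff.1 hj
  have hle : ∀ i, P.coeff i / P.coeff j ∈ W.comap (algebraMap K₂ M) := fun i => by
    rw [← ValuationSubring.valuation_le_one_iff, map_div₀]
    refine (div_le_one₀ (zero_lt_iff.2 ((Valuation.ne_zero_iff _).2 hj0))).2 ?_
    by_cases hi : i ∈ P.support
    · exact hmax i hi
    · rw [notMem_support_iff.1 hi, map_zero]; exact zero_le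
  let Q : (W.comap (algebraMap K₂ M))[X] :=
    ∑ i ∈ P.support, C (⟨P.coeff i / P.coeff j, hle i⟩ : W.comap (algebraMap K₂ M)) * X ^ i
  have hQ : Q.map (W.comap (algebraMap K₂ M)).subtype = C (P.coeff j)⁻¹ * P := by
    conv_rhs => arg 2; rw [P.as_sum_support_C_mul_X_pow]
    rw [Polynomial.map_sum, Finset.mul_sum]
    refine Finset.sum_congr rfl fun i _ => ?_
    rw [Polynomial.map_mul, Polynomial.map_pow, map_X, map_C, ← mul_assoc, ← C_mul, inv_mul_eq_div]
    rfl
  refine ⟨Q.map (residue _), fun h0 => ?_, ?_⟩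
  · have h1 := congrArg (coeff · j) h0
    rw [coeff_map, coeff_zero, residue_eq_zero_iff] at h1
    refine (mem_maximalIdeal _).1 h1 ?_
    have h2 : Q.coeff j = 1 := by
      refine Subtype.ext ?_
      have := congrArg (coeff · j) hQ
      rw [coeff_map, coeff_C_mul, inv_mul_cancel₀ hj0] at this
      exact this
    rw [h2]; exact isUnit_one
  · have h1 : Q.eval₂ (EtRam.inclOfComap W (algebraMap K₂ M)) x = 0 := by
      refine Subtype.ext ?_
      show W.subtype _ = 0
      rw [hom_eval₂, show W.subtype.comp (EtRam.inclOfComap W (algebraMap K₂ M)) =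
        (algebraMap K₂ M).comp (W.comap (algebraMap K₂ M)).subtype from rfl, ← eval₂_map, hQ, ← aeval_def, map_mul]
      exact mul_eq_zero_of_right _ hP
    rw [aeval_def, eval₂_map]
    have h2 := congrArg (residue W) h1
    rw [map_zero, hom_eval₂] at h2
    exact h2

variable {K₃ K₂ M M' : Type u} [Field K₃] [Field K₂] [Field M] [Field M'] [Algebra K₃ M] [Algebra K₃ K₂]
  [Algebra M M'] [Algebra K₂ M'] [Algebra K₃ M'] [IsScalarTower K₃ M M'] [IsScalarTower K₃ K₂ M']
  (W' : ValuationSubring M')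

set_option maxHeartbeats 800000 in
/-- **The core descent.** -/
theorem descend_formallySmooth
    (hinj : Function.Injective (Algebra.TensorProduct.productMap (IsScalarTower.toAlgHom K₃ K₂ M')
      (IsScalarTower.toAlgHom K₃ M M')))
    (p e : ℕ) [ExpChar M' p] (hpow : ∀ y : M', y ^ p ^ e ∈ (algebraMap M M').range)
    [Algebra.IsAlgebraic K₂ M']
    (hfin : (EtRam.inclOfComap W' (algebraMap M M')).Finite) [IsNoetherianRing W']
    (hwu : letI : Algebra (W'.comap (algebraMap K₂ M')) W' := (EtRam.inclOfComap W' (algebraMap K₂ M')).toAlgebra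
      EtRam.IsWeaklyUnramified (W'.comap (algebraMap K₂ M')) W')
    (hsep : @Algebra.IsGeometricallyReduced (ResidueField (W'.comap (algebraMap K₂ M'))) (ResidueField W') _ _
      (ResidueField.map (EtRam.inclOfComap W' (algebraMap K₂ M'))).toAlgebra) :
    (letI : Algebra ((W'.comap (algebraMap M M')).comap (algebraMap K₃ M)) (W'.comap (algebraMap M M')) :=
        (EtRam.inclOfComap (W'.comap (algebraMap M M')) (algebraMap K₃ M)).toAlgebra;
      EtRam.IsWeaklyUnramified ((W'.comap (algebraMap M M')).comap (algebraMap K₃ M)) (W'.comap (algebraMap M M'))) ∧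
    @Algebra.IsGeometricallyReduced (ResidueField ((W'.comap (algebraMap M M')).comap (algebraMap K₃ M)))
      (ResidueField (W'.comap (algebraMap M M'))) _ _
      (ResidueField.map (EtRam.inclOfComap (W'.comap (algebraMap M M')) (algebraMap K₃ M))).toAlgebra := by
  classical
  set q := p ^ e with hqdef
  have hq : 0 < q := pow_pos (expChar_pos M' p) e
  let W := W'.comap (algebraMap M M')
  let A₂ := W'.comap (algebraMap K₂ M')
  let A₃ := W.comap (algebraMap K₃ M)
  let i₃₂ : A₃ →+* A₂ := (algebraMap K₃ K₂).restrict A₃ A₂ fun x hx => by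
    show algebraMap K₂ M' (algebraMap K₃ K₂ x) ∈ W'
    rw [← IsScalarTower.algebraMap_apply, IsScalarTower.algebraMap_apply K₃ M M']
    exact hx
  let i₃ : A₃ →+* W := EtRam.inclOfComap W (algebraMap K₃ M)
  let j₂ : A₂ →+* W' := EtRam.inclOfComap W' (algebraMap K₂ M')
  let jW : W →+* W' := EtRam.inclOfComap W' (algebraMap M M')
  letI : Algebra A₃ A₂ := i₃₂.toAlgebra
  letI : Algebra A₃ W := i₃.toAlgebra
  letI : Algebra A₂ W' := j₂.toAlgebra
  letI : Algebra W W' := jW.toAlgebra
  letI : Algebra A₃ W' := (jW.comp i₃).toAlgebra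
  haveI : IsScalarTower A₃ W W' := IsScalarTower.of_algebraMap_eq fun _ => rfl
  haveI : IsScalarTower A₃ A₂ W' := IsScalarTower.of_algebraMap_eq fun a => Subtype.ext (by
    show algebraMap M M' (algebraMap K₃ M (a : K₃)) = algebraMap K₂ M' (algebraMap K₃ K₂ (a : K₃))
    rw [← IsScalarTower.algebraMap_apply, ← IsScalarTower.algebraMap_apply])
  haveI hloc : IsLocalHom (algebraMap A₃ A₂) := ⟨fun a ha => by
    have h1 : IsUnit (jW (i₃ a)) := by
      rw [show jW (i₃ a) = j₂ (i₃₂ a) from IsScalarTower.algebraMap_apply A₃ A₂ W' a]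
      exact ha.map j₂
    exact IsLocalHom.map_nonunit a (IsLocalHom.map_nonunit _ h1)⟩
  let θ : A₂ ⊗[A₃] W →ₐ[A₃] W' := Algebra.TensorProduct.productMap (IsScalarTower.toAlgHom A₃ A₂ W')
    (IsScalarTower.toAlgHom A₃ W W')
  have hθ : ∀ a x, θ (a ⊗ₜ x) = j₂ a * jW x := fun a x => rfl
  haveI : Module.Flat A₃ A₂ := flat_of_injective' fun a b h => Subtype.ext
    ((algebraMap K₃ K₂).injective (congrArg Subtype.val h))
  haveI : Module.FaithfullyFlat A₃ A₂ := Module.FaithfullyFlat.of_flat_of_isLocalHom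
  -- injectivity
  have hθinj : Function.Injective θ := by
    letI : Algebra A₃ M := ((algebraMap K₃ M).comp A₃.subtype).toAlgebra
    letI : Algebra A₃ K₂ := ((algebraMap K₃ K₂).comp A₃.subtype).toAlgebra
    haveI : IsScalarTower A₃ K₃ M := IsScalarTower.of_algebraMap_eq fun _ => rfl
    haveI : IsScalarTower A₃ K₃ K₂ := IsScalarTower.of_algebraMap_eq fun _ => rfl
    let s₂ : A₂ →ₐ[A₃] K₂ := { toRingHom := A₂.subtype, commutes' := fun _ => rfl }
    let sW : W →ₐ[A₃] M := { toRingHom := W.subtype, commutes' := fun _ => rfl }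
    haveI : Module.Flat A₃ M := flat_of_injective' fun a b h => Subtype.ext ((algebraMap K₃ M).injective h)
    have hψ : Function.Injective (TensorProduct.map s₂.toLinearMap sW.toLinearMap) := by
      rw [← LinearMap.rTensor_comp_lTensor]
      exact (Module.Flat.rTensor_preserves_injective_linearMap (M := M) s₂.toLinearMap
          Subtype.val_injective).comp (Module.Flat.lTensor_preserves_injective_linearMap _ Subtype.val_injective)
    haveI : IsLocalization (nonZeroDivisors A₃) K₃ := (inferInstance : IsFractionRing A₃ K₃)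
    haveI : TensorProduct.CompatibleSMul A₃ K₃ K₂ M :=
      IsLocalization.tensorProduct_compatibleSMul (nonZeroDivisors A₃) K₃ K₂ M
    let ε := Algebra.TensorProduct.equivOfCompatibleSMul A₃ K₃ A₃ K₂ M
    have hcomp : ∀ y, Algebra.TensorProduct.productMap (IsScalarTower.toAlgHom K₃ K₂ M')
        (IsScalarTower.toAlgHom K₃ M M') (ε.symm (TensorProduct.map s₂.toLinearMap sW.toLinearMap y)) = (θ y : M') := by
      intro y
      induction y using TensorProduct.induction_on with
      | zero => simp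
      | tmul a x => rfl
      | add y z hy hz => simp only [map_add, hy, hz]; rfl
    intro y z h
    have h' : (θ y : M') = (θ z : M') := congrArg Subtype.val h
    rw [← hcomp, ← hcomp] at h'
    exact hψ (ε.symm.injective (hinj h'))
  -- surjectivity
  have hwu' : (maximalIdeal A₂).map j₂ = maximalIdeal W' := hwu
  have hsep' : @Algebra.IsSeparable (ResidueField A₂) (ResidueField W') _ _ (ResidueField.map j₂).toAlgebra := by
    letI := (ResidueField.map j₂).toAlgebra
    haveI : Algebra.IsGeometricallyReduced (ResidueField A₂) (ResidueField W') := hsep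
    haveI : Algebra.IsIntegral (ResidueField A₂) (ResidueField W') := isIntegral_residue W'
    exact GeomField.isSeparable_of_gr (ResidueField A₂) (ResidueField W')
  let C : Subring W' := θ.toRingHom.range
  have hCW : ∀ x : W, jW x ∈ C := fun x => ⟨1 ⊗ₜ x, (hθ 1 x).trans (by rw [map_one, one_mul])⟩
  have hCA : ∀ a : A₂, j₂ a ∈ C := fun a => ⟨a ⊗ₜ 1, (hθ a 1).trans (by rw [map_one, mul_one])⟩
  have hpow' : ∀ y : W', ∃ x : W, jW x = y ^ q := fun y => by
    obtain ⟨x, hx⟩ := hpow y
    exact ⟨⟨x, by show algebraMap M M' x ∈ W'; rw [hx]; exact (y ^ q).2⟩, Subtype.ext hx⟩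
  have hres : ∀ y : W', ∃ c ∈ C, residue W' c = residue W' y := by
    letI := (ResidueField.map j₂).toAlgebra
    haveI : Algebra.IsSeparable (ResidueField A₂) (ResidueField W') := hsep'
    let E : IntermediateField (ResidueField A₂) (ResidueField W') :=
      IntermediateField.adjoin (ResidueField A₂) (Set.range ((residue W').comp jW))
    have hEC : ∀ e ∈ E, ∃ c ∈ C, residue W' c = e := by
      intro e he
      have hE : E.toSubalgebra = Algebra.adjoin (ResidueField A₂) (Set.range ((residue W').comp jW)) :=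
        IntermediateField.adjoin_toSubalgebra_of_isAlgebraic fun x _ => Algebra.IsAlgebraic.isAlgebraic x
      have he' : e ∈ Algebra.adjoin (ResidueField A₂) (Set.range ((residue W').comp jW)) := hE ▸ he
      clear he
      induction he' using Algebra.adjoin_induction with
      | mem x hx => obtain ⟨x, rfl⟩ := hx; exact ⟨jW x, hCW x, rfl⟩
      | algebraMap r => obtain ⟨r, rfl⟩ := residue_surjective r; exact ⟨j₂ r, hCA r, rfl⟩
      | add x y _ _ hx hy =>
        obtain ⟨c, hc, rfl⟩ := hx
        obtain ⟨d, hd, rfl⟩ := hy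
        exact ⟨c + d, add_mem hc hd, map_add _ _ _⟩
      | mul x y _ _ hx hy =>
        obtain ⟨c, hc, rfl⟩ := hx
        obtain ⟨d, hd, rfl⟩ := hy
        exact ⟨c * d, mul_mem hc hd, map_mul _ _ _⟩
    intro y
    refine hEC _ ?_
    have hsepE : IsSeparable E (residue W' y) := (Algebra.IsSeparable.isSeparable (ResidueField A₂) (residue W' y)).tower_top E
    have hqE : residue W' y ^ q ∈ E := by
      obtain ⟨x, hx⟩ := hpow' y
      rw [← map_pow, ← hx]
      exact IntermediateField.subset_adjoin _ _ ⟨x, rfl⟩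
    rcases ‹ExpChar M' p› with - | hp
    · rw [hqdef, one_pow, pow_one] at hqE
      exact hqE
    · haveI : CharP W' p := (RingHom.charP_iff W'.subtype Subtype.val_injective p).2 inferInstance
      haveI : CharP (ResidueField W') p := (CharP.charP_iff_prime_eq_zero hp).2 (by
        rw [← map_natCast (residue W'), CharP.cast_eq_zero, map_zero])
      haveI := ExpChar.prime (R := ResidueField W') hp
      exact mem_of_isSeparable_of_pow_mem E p e (residue W' y) hsepE hqE
  obtain ⟨a, ha, hagen⟩ : ∃ a ∈ maximalIdeal A₂, maximalIdeal W' = Ideal.span {j₂ a} := by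
    haveI : (maximalIdeal W').IsPrincipal := IsBezout.isPrincipal_of_FG _ ((isNoetherianRing_iff_ideal_fg _).1 inferInstance _)
    obtain ⟨t, ht⟩ := Submodule.IsPrincipal.principal (maximalIdeal W')
    have key : ∀ r ∈ (maximalIdeal A₂).map j₂, ∃ a ∈ maximalIdeal A₂, j₂ a ∣ r := by
      intro r hr
      induction hr using Submodule.span_induction with
      | mem y hy => obtain ⟨a, ha, rfl⟩ := hy; exact ⟨a, ha, dvd_rfl⟩
      | zero => exact ⟨0, zero_mem _, dvd_zero _⟩
      | add y z _ _ hy hz =>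
        obtain ⟨a, ha, hya⟩ := hy
        obtain ⟨b, hb, hzb⟩ := hz
        rcases (ValuationRing.iff_dvd_total.1 (inferInstance : ValuationRing W')).total (j₂ a) (j₂ b) with h | h
        · exact ⟨a, ha, dvd_add hya (h.trans hzb)⟩
        · exact ⟨b, hb, dvd_add (h.trans hya) hzb⟩
      | smul c y _ hy => obtain ⟨a, ha, hya⟩ := hy; exact ⟨a, ha, dvd_mul_of_dvd_right hya c⟩
    obtain ⟨a, ha, hat⟩ := key t (hwu'.symm ▸ (ht ▸ Submodule.mem_span_singleton_self t : t ∈ maximalIdeal W'))
    refine ⟨a, ha, le_antisymm ?_ ?_⟩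
    · rw [ht]; exact Ideal.span_singleton_le_span_singleton.2 hat
    · rw [Ideal.span_singleton_le_iff_mem, ← hwu']; exact Ideal.mem_map_of_mem _ ha
  have hiter : ∀ k : ℕ, ∀ y : W', ∃ c ∈ C, j₂ a ^ k ∣ y - c := by
    intro k
    induction k with
    | zero => exact fun y => ⟨0, zero_mem _, by simp⟩
    | succ k ih =>
      intro y
      obtain ⟨c, hc, d, hd⟩ := ih y
      obtain ⟨c', hc', hres'⟩ := hres d
      have h1 : d - c' ∈ maximalIdeal W' := Ideal.Quotient.eq.1 hres'.symm
      rw [hagen, Ideal.mem_span_singleton] at h1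
      obtain ⟨e, he⟩ := h1
      refine ⟨c + j₂ a ^ k * c', add_mem hc (mul_mem (pow_mem (hCA a) k) hc'), e, ?_⟩
      rw [pow_succ, mul_assoc, ← he]
      linear_combination hd
  have hsurj : Function.Surjective θ := by
    haveI : Module.Finite W W' := hfin
    let N : Submodule W W' :=
      { carrier := C, zero_mem' := zero_mem C, add_mem' := fun {x y} hx hy => add_mem hx hy,
        smul_mem' := fun x c hc => by rw [Algebra.smul_def]; exact mul_mem (hCW x) hc }
    obtain ⟨x₀, hx₀⟩ := hpow' (j₂ a)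
    have hx₀m : x₀ ∈ maximalIdeal W := by
      refine (mem_maximalIdeal _).2 fun hu => (mem_maximalIdeal _).1
        (hagen ▸ Ideal.mem_span_singleton_self _ : j₂ a ∈ maximalIdeal W') ((isUnit_pow_iff hq.ne').1 ?_)
      rw [← hx₀]
      exact hu.map jW
    have hN : N = ⊤ := by
      refine top_le_iff.1 (Submodule.le_of_le_smul_of_le_jacobson_bot (I := maximalIdeal W)
        (Module.Finite.fg_top) (IsLocalRing.maximalIdeal_le_jacobson ⊥) fun y _ => ?_)
      obtain ⟨c, hc, d, hd⟩ := hiter q y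
      rw [show y = c + x₀ • d by rw [Algebra.smul_def, show algebraMap W W' x₀ = jW x₀ from rfl, hx₀, ← hd]; ring]
      exact Submodule.add_mem_sup hc (Submodule.smul_mem_smul hx₀m Submodule.mem_top)
    intro y
    exact (hN ▸ Submodule.mem_top : y ∈ N)
  -- `Φ : W' → κ₂ ⊗ Q`
  letI : Algebra (ResidueField A₃) (W ⧸ (maximalIdeal A₃).map i₃) := (Ideal.Quotient.lift (maximalIdeal A₃)
    ((Ideal.Quotient.mk _).comp i₃) fun x hx => Ideal.Quotient.eq_zero_iff_mem.2 (Ideal.mem_map_of_mem _ hx)).toAlgebra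
  haveI : IsScalarTower A₃ (ResidueField A₃) (W ⧸ (maximalIdeal A₃).map i₃) := IsScalarTower.of_algebraMap_eq fun _ => rfl
  let l₂ : A₂ →ₐ[A₃] ResidueField A₂ ⊗[ResidueField A₃] (W ⧸ (maximalIdeal A₃).map i₃) :=
    ((Algebra.TensorProduct.includeLeft : ResidueField A₂ →ₐ[ResidueField A₃] _).restrictScalars A₃).comp
      { toRingHom := residue A₂, commutes' := fun _ => rfl }
  let lW : W →ₐ[A₃] ResidueField A₂ ⊗[ResidueField A₃] (W ⧸ (maximalIdeal A₃).map i₃) :=
    ((Algebra.TensorProduct.includeRight : (W ⧸ (maximalIdeal A₃).map i₃) →ₐ[ResidueField A₃] _).restrictScalars A₃).comp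
      { toRingHom := Ideal.Quotient.mk _, commutes' := fun _ => rfl }
  have hc : ∀ (x : A₂) (y : W), Commute (l₂ x) (lW y) := fun _ _ =>
    Commute.all (S := ResidueField A₂ ⊗[ResidueField A₃] (W ⧸ (maximalIdeal A₃).map i₃)) _ _
  let eθ : A₂ ⊗[A₃] W ≃ₐ[A₃] W' := AlgEquiv.ofBijective θ ⟨hθinj, hsurj⟩
  let Φ : W' →ₐ[A₃] ResidueField A₂ ⊗[ResidueField A₃] (W ⧸ (maximalIdeal A₃).map i₃) :=
    (Algebra.TensorProduct.lift l₂ lW hc).comp
      eθ.symm.toAlgHom
  have hΦ₂ : ∀ b : A₂, Φ (j₂ b) = residue A₂ b ⊗ₜ 1 := fun b => by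
    have h : eθ.symm (j₂ b) = b ⊗ₜ 1 := eθ.injective (by
      rw [eθ.apply_symm_apply]; exact ((hθ b 1).trans (by rw [map_one, mul_one])).symm)
    show Algebra.TensorProduct.lift l₂ lW hc (eθ.symm (j₂ b)) = _
    rw [h, Algebra.TensorProduct.lift_tmul, map_one, mul_one]
    rfl
  have hΦW : ∀ x : W, Φ (jW x) = (1 : ResidueField A₂) ⊗ₜ Ideal.Quotient.mk _ x := fun x => by
    have h : eθ.symm (jW x) = 1 ⊗ₜ x := eθ.injective (by
      rw [eθ.apply_symm_apply]; exact ((hθ 1 x).trans (by rw [map_one, one_mul])).symm)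
    show Algebra.TensorProduct.lift l₂ lW hc (eθ.symm (jW x)) = _
    rw [h, Algebra.TensorProduct.lift_tmul, map_one, one_mul]
    rfl
  have hΦm : ∀ y ∈ maximalIdeal W', Φ y = 0 := fun y hy => by
    rw [hagen, Ideal.mem_span_singleton] at hy
    obtain ⟨c, rfl⟩ := hy
    rw [map_mul, hΦ₂, (residue_eq_zero_iff a).2 ha, TensorProduct.zero_tmul, zero_mul]
  have hmax : maximalIdeal W = (maximalIdeal A₃).map i₃ := by
    refine le_antisymm (fun x hx => ?_) (Ideal.map_le_iff_le_comap.2 fun c hc => ?_)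
    · have h1 : jW x ∈ maximalIdeal W' := (mem_maximalIdeal _).2 fun hu =>
        (mem_maximalIdeal _).1 hx (IsLocalHom.map_nonunit x hu)
      have h2 := (hΦW x).symm.trans (hΦm _ h1)
      exact Ideal.Quotient.eq_zero_iff_mem.1 (Algebra.TensorProduct.includeRight_injective
        (A := ResidueField A₂) (B := (W ⧸ (maximalIdeal A₃).map i₃)) (algebraMap (ResidueField A₃) (ResidueField A₂)).injective
        (h2.trans (map_zero _).symm))
    · exact (mem_maximalIdeal _).2 fun hu => (mem_maximalIdeal _).1 hc (IsLocalHom.map_nonunit c hu)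
  refine ⟨hmax.symm, ?_⟩
  -- separability of the residue extension
  haveI : Nontrivial (W ⧸ (maximalIdeal A₃).map i₃) := Ideal.Quotient.nontrivial_iff.2 (by rw [← hmax]; exact (maximalIdeal.isMaximal W).ne_top)
  letI := (ResidueField.map i₃).toAlgebra
  haveI : Algebra.IsSeparable (ResidueField A₃) (ResidueField W) := by
    refine ⟨fun x => ?_⟩
    obtain ⟨x, rfl⟩ := residue_surjective x
    letI := (ResidueField.map j₂).toAlgebra
    haveI : Algebra.IsSeparable (ResidueField A₂) (ResidueField W') := hsep'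
    let ρ : (W ⧸ (maximalIdeal A₃).map i₃) →ₐ[ResidueField A₃] ResidueField W :=
      { toRingHom := Ideal.Quotient.lift _ (residue W) fun y hy => by
          rw [← hmax] at hy; exact (residue_eq_zero_iff y).2 hy
        commutes' := fun r => by
          obtain ⟨r, rfl⟩ := residue_surjective r
          rfl }
    have hy : ρ (Ideal.Quotient.mk _ x) = residue W x := Ideal.Quotient.lift_mk _ _ _
    refine isSeparable_of_residual' (k₂ := ResidueField A₂) (R := W') (z := jW x) (x := Ideal.Quotient.mk _ x)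
      (Φ : W' →+* ResidueField A₂ ⊗[ResidueField A₃] (W ⧸ (maximalIdeal A₃).map i₃)) hΦm (fun r => ?_) (hΦW x) ρ hy
    obtain ⟨r, rfl⟩ := residue_surjective r
    exact hΦ₂ r
  show Algebra.IsGeometricallyReduced (ResidueField A₃) (ResidueField W)
  exact gr_of_isSeparable (ResidueField A₃) (ResidueField W)

end Groth.Agent.EtRam93
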