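import Groth.Agent.EtRam93.SepDescentCore
import Groth.Agent.EtRam93.NagataDescent
import Groth.Agent.EtRam46.LocalExt
import Groth.Agent.EtRam46.Root
import Groth.Agent.CompleteNagata.Tate
import Mathlib

/-!
# A solution yields a separable solution
-/

set_option autoImplicit false
set_option linter.style.haveILetI false
set_option linter.unusedSectionVars false

universe u

open TensorProduct IsLocalRing Polynomial

namespace Groth.Agent.EtRam93

/-- Elements of a valuation subring are quotients of integral elements with unit denominator. -/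
theorem exists_frac_of_mem {R M : Type u} [CommRing R] [IsDedekindDomain R] [Field M] [Algebra R M] [IsFractionRing R M]
    (W : ValuationSubring M) (hR : ∀ r, algebraMap R M r ∈ W) {t : R} (ht : W.valuation (algebraMap R M t) < 1)
    (ht0 : t ≠ 0) {x : M} (hx : x ∈ W) :
    ∃ r s, W.valuation (algebraMap R M s) = 1 ∧ x * algebraMap R M s = algebraMap R M r := by
  let n : Ideal R := (maximalIdeal W).comap ((algebraMap R M).codRestrict W hR)
  have hn : ∀ r, r ∈ n ↔ W.valuation (algebraMap R M r) < 1 := fun r => W.valuation_lt_one_iff _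
  have hn0 : n ≠ ⊥ := fun h => ht0 (by have := (hn t).2 ht; rwa [h, Ideal.mem_bot] at this)
  haveI : n.IsPrime := Ideal.comap_isPrime _ _
  let R' := Localization.AtPrime n
  haveI : IsDomain R' := IsLocalization.isDomain_localization n.primeCompl_le_nonZeroDivisors
  haveI : IsDiscreteValuationRing R' := IsLocalization.AtPrime.isDiscreteValuationRing_of_dedekind_domain R hn0 R'
  have hv1 : ∀ s ∉ n, W.valuation (algebraMap R M s) = 1 := fun s hs =>
    le_antisymm ((W.valuation_le_one_iff _).2 (hR s)) (not_lt.1 fun h => hs ((hn s).2 h))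
  obtain ⟨a, b, hb, rfl⟩ := IsFractionRing.div_surjective (A := R) x
  have hb0 : algebraMap R M b ≠ 0 := IsFractionRing.to_map_ne_zero_of_mem_nonZeroDivisors hb
  rcases (ValuationRing.iff_dvd_total.1 (inferInstance : ValuationRing R')).total (algebraMap R R' b) (algebraMap R R' a) with
    ⟨c, hc⟩ | ⟨c, hc⟩
  · obtain ⟨⟨r, ⟨s, hs⟩⟩, hrs⟩ := IsLocalization.surj n.primeCompl c
    refine ⟨r, s, hv1 s hs, ?_⟩
    have h1 : algebraMap R R' (a * s) = algebraMap R R' (b * r) := by
      rw [map_mul, map_mul, hc, mul_assoc, hrs]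
    have h2 := congrArg (algebraMap R M) (IsLocalization.injective R' n.primeCompl_le_nonZeroDivisors h1)
    rw [map_mul, map_mul] at h2
    rw [div_mul_eq_mul_div, div_eq_iff hb0, mul_comm _ (algebraMap R M b)]
    exact h2
  · obtain ⟨⟨r, ⟨s, hs⟩⟩, hrs⟩ := IsLocalization.surj n.primeCompl c
    have h1 : algebraMap R R' (b * s) = algebraMap R R' (a * r) := by
      rw [map_mul, map_mul, hc, mul_assoc, hrs]
    have h2 := congrArg (algebraMap R M) (IsLocalization.injective R' n.primeCompl_le_nonZeroDivisors h1)
    rw [map_mul, map_mul] at h2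
    refine ⟨s, r, hv1 r fun hr => ?_, ?_⟩
    · have h3 : W.valuation (algebraMap R M b) ≤ W.valuation (algebraMap R M a) * W.valuation (algebraMap R M r) := by
        rw [← map_mul, ← h2, map_mul, hv1 s hs, mul_one]
      have h4 : W.valuation (algebraMap R M a) ≤ W.valuation (algebraMap R M b) := by
        have := (W.valuation_le_one_iff _).2 hx
        rwa [map_div₀, div_le_one₀ (zero_lt_iff.2 ((Valuation.ne_zero_iff _).2 hb0))] at this
      have h5 : W.valuation (algebraMap R M b) * W.valuation (algebraMap R M r) < W.valuation (algebraMap R M b) :=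
        mul_lt_of_lt_one_right (zero_lt_iff.2 ((Valuation.ne_zero_iff _).2 hb0)) ((hn r).1 hr)
      exact absurd (h3.trans (mul_le_mul_left h4 _)) (not_le.2 h5)
    · rw [div_mul_eq_mul_div, div_eq_iff hb0, ← h2, mul_comm]

set_option maxHeartbeats 800000 in
theorem solution_of_tower (A B K L : Type u) [CommRing A] [IsDomain A] [IsDiscreteValuationRing A]
    [CommRing B] [IsDomain B] [IsDiscreteValuationRing B] [Algebra A B] [IsLocalHom (algebraMap A B)]
    (hinj : Function.Injective (algebraMap A B))
    [Field K] [Field L] [Algebra A K] [IsFractionRing A K] [Algebra B L] [IsFractionRing B L]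
    [Algebra K L] [Algebra A L] [IsScalarTower A K L] [IsScalarTower A B L] [Algebra.IsSeparable K L] (hB : CAlg.IsNagata B)
    (K₂ : Type u) [Field K₂] [Algebra K K₂] [FiniteDimensional K K₂] (h₂ : EtRam.IsSolution B K L K₂)
    (K₃ : Type u) [Field K₃] [Algebra K K₃] [FiniteDimensional K K₃] [Algebra K₃ K₂] [IsScalarTower K K₃ K₂]
    [Algebra.IsSeparable K K₃] [IsPurelyInseparable K₃ K₂] : EtRam.IsSolution B K L K₃ := by
  classical
  intro M _ _ _ _ _ _ hgen W hW
  haveI : FiniteDimensional L M := EtRam46.finite_compositum (K := K) (K₁ := K₃) hgen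
  -- `M` is separable over `K₃`
  haveI : Algebra.IsSeparable L M := by
    refine ⟨fun x => ?_⟩
    have hx : x ∈ Algebra.adjoin L (Set.range (algebraMap K₃ M)) := hgen ▸ Algebra.mem_top
    have hle : Algebra.adjoin L (Set.range (algebraMap K₃ M)) ≤ WEt93.sepElems L M := Algebra.adjoin_le (by
      rintro _ ⟨y, rfl⟩
      exact (WEt93.isSeparable_map (IsScalarTower.toAlgHom K K₃ M) (Algebra.IsSeparable.isSeparable K y)).tower_top L)
    exact hle hx
  haveI : Algebra.IsSeparable K M := Algebra.IsSeparable.trans K L M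
  haveI : Algebra.IsSeparable K₃ M := Algebra.isSeparable_tower_top_of_isSeparable K K₃ M
  -- the field `M'`
  let p := ringExpChar K₃
  haveI : FiniteDimensional K₃ K₂ := Module.Finite.of_restrictScalars_finite K K₃ K₂
  obtain ⟨e, he⟩ := CompleteNagata.exists_pow_mem K₃ K₂ p
  let T := M ⊗[K₃] K₂
  haveI : IsReduced T := isReduced_tensor_of_isSeparable K₃ M K₂
  haveI : ExpChar M p := expChar_of_injective_algebraMap (algebraMap K₃ M).injective p
  haveI : Nontrivial T := (Algebra.TensorProduct.includeLeft_injective (S := M) (A := M) (B := K₂)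
    (algebraMap K₃ K₂).injective).nontrivial
  haveI : ExpChar T p := expChar_of_injective_ringHom (f := algebraMap M T) (algebraMap M T).injective p
  have hpowT : ∀ x : T, x ^ p ^ e ∈ (algebraMap M T).range := fun x => by
    induction x using TensorProduct.induction_on with
    | zero => rw [zero_pow (pow_pos (expChar_pos K₃ p) e).ne']; exact zero_mem _
    | tmul m y =>
      obtain ⟨c, hc⟩ := he y
      refine ⟨m ^ p ^ e * algebraMap K₃ M c, ?_⟩
      rw [Algebra.TensorProduct.tmul_pow, ← hc, Algebra.TensorProduct.algebraMap_apply, Algebra.algebraMap_self,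
        RingHom.id_apply, Algebra.algebraMap_eq_smul_one c, Algebra.algebraMap_eq_smul_one c,
        ← TensorProduct.smul_tmul, mul_smul_comm, mul_one]
    | add x y hx hy => rw [add_pow_expChar_pow]; exact add_mem hx hy
  have hfield : IsField T := ⟨exists_pair_ne _, mul_comm, fun {x} hx => by
    obtain ⟨m, hm⟩ := hpowT x
    have hm0 : m ≠ 0 := fun h => hx (IsReduced.eq_zero x ⟨p ^ e, by rw [← hm, h, map_zero]⟩)
    have hu : IsUnit (x ^ p ^ e) := hm ▸ (IsUnit.mk0 m hm0).map (algebraMap M T)
    obtain ⟨u, hu⟩ := (isUnit_pow_iff (pow_pos (expChar_pos K₃ p) e).ne').1 hu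
    exact ⟨↑u⁻¹, by rw [← hu, u.mul_inv]⟩⟩
  letI : Field T := hfield.toField
  letI : Algebra K₂ T := (Algebra.TensorProduct.includeRight : K₂ →ₐ[K₃] T).toRingHom.toAlgebra
  haveI : IsScalarTower K₃ K₂ T := IsScalarTower.of_algebraMap_eq fun c => by
    show algebraMap K₃ M c ⊗ₜ[K₃] (1 : K₂) = (1 : M) ⊗ₜ[K₃] algebraMap K₃ K₂ c
    rw [Algebra.algebraMap_eq_smul_one, Algebra.algebraMap_eq_smul_one, TensorProduct.smul_tmul]
  haveI : IsScalarTower L M T := inferInstance
  haveI : IsScalarTower K L T := IsScalarTower.of_algebraMap_eq fun c => by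
    show algebraMap M T (algebraMap K M c) = algebraMap M T (algebraMap L M (algebraMap K L c))
    rw [← IsScalarTower.algebraMap_apply K L M]
  haveI : IsScalarTower K K₂ T := IsScalarTower.of_algebraMap_eq fun c => by
    show algebraMap M T (algebraMap K M c) = algebraMap K₂ T (algebraMap K K₂ c)
    rw [IsScalarTower.algebraMap_apply K K₃ M, ← IsScalarTower.algebraMap_apply K₃ M T,
      IsScalarTower.algebraMap_apply K K₃ K₂, ← IsScalarTower.algebraMap_apply K₃ K₂ T]
  haveI : ExpChar T p := expChar_of_injective_ringHom (f := algebraMap M T) (algebraMap M T).injective p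
  obtain ⟨W', hW'⟩ := EtRam46.exists_comap_eq (algebraMap M T) W
  subst hW'
  have hdom : EtRam.Dominates B ((algebraMap L T).comp (algebraMap B L)) W' := by
    refine ⟨fun b => hW.1 b, fun b hb => ?_⟩
    exact (EtRam46.comap_lt_one_iff (W := W') (f := algebraMap M T) _).1 (hW.2 b hb)
  have hgenT : Algebra.adjoin L (Set.range (algebraMap K₂ T)) = ⊤ := by
    refine eq_top_iff.2 fun x _ => ?_
    have hM : ∀ m : M, algebraMap M T m ∈ Algebra.adjoin L (Set.range (algebraMap K₂ T)) := fun m => by
      have hm : m ∈ Algebra.adjoin L (Set.range (algebraMap K₃ M)) := hgen ▸ Algebra.mem_top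
      induction hm using Algebra.adjoin_induction with
      | mem y hy =>
        obtain ⟨y, rfl⟩ := hy
        rw [← IsScalarTower.algebraMap_apply, IsScalarTower.algebraMap_apply K₃ K₂ T]
        exact Algebra.subset_adjoin ⟨_, rfl⟩
      | algebraMap l => exact Subalgebra.algebraMap_mem _ l
      | add a b _ _ ha hb => rw [map_add]; exact add_mem ha hb
      | mul a b _ _ ha hb => rw [map_mul]; exact mul_mem ha hb
    induction x using TensorProduct.induction_on with
    | zero => exact zero_mem _
    | tmul m y =>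
      rw [show (m ⊗ₜ[K₃] y : T) = algebraMap M T m * algebraMap K₂ T y by
        rw [RingHom.algebraMap_toAlgebra]; simp [T, Algebra.TensorProduct.algebraMap_apply]]
      exact mul_mem (hM m) (Algebra.subset_adjoin ⟨y, rfl⟩)
    | add a b ha hb => exact add_mem (ha trivial) (hb trivial)
  haveI : Algebra.IsAlgebraic K₂ T := ⟨fun x => by
    obtain ⟨m, hm⟩ := hpowT x
    refine IsAlgebraic.of_pow (pow_pos (expChar_pos K₃ p) e) ?_
    rw [← hm]
    exact ((Algebra.IsAlgebraic.isAlgebraic (R := K) m).algHom (IsScalarTower.toAlgHom K M T)).extendScalars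
      (algebraMap K K₂).injective⟩
  have hsol := h₂ T hgenT W' hdom
  -- finiteness
  haveI : FiniteDimensional L T := Module.Finite.trans M T
  haveI := finiteType_fractionRing B L
  letI : Algebra B T := ((algebraMap L T).comp (algebraMap B L)).toAlgebra
  haveI : IsScalarTower B L T := IsScalarTower.of_algebraMap_eq fun _ => rfl
  haveI : Algebra.FiniteType B T := Algebra.FiniteType.trans (R := B) (S := L) inferInstance inferInstance
  let Bt := integralClosure B T
  haveI : Module.Finite B Bt := NagataLib.finite_integralClosure_domain hB T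
  haveI : IsNoetherianRing Bt := IsNoetherianRing.of_finite B Bt
  haveI : IsFractionRing Bt T := IsIntegralClosure.isFractionRing_of_finite_extension B L T Bt
  haveI : IsIntegrallyClosed Bt := integralClosure.isIntegrallyClosedOfFiniteExtension L
  haveI : Algebra.IsIntegral B Bt := Algebra.IsIntegral.of_finite B Bt
  haveI : Ring.DimensionLEOne Bt := Ring.DimensionLEOne.of_isIntegral B Bt
  haveI : IsDedekindDomain Bt := {}
  have hBtW : ∀ r : Bt, algebraMap Bt T r ∈ W' := fun r => by
    letI : Algebra B W' := (RingHom.codRestrict ((algebraMap L T).comp (algebraMap B L)) W' hdom.1).toAlgebra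
    haveI : IsScalarTower B W' T := IsScalarTower.of_algebraMap_eq fun _ => rfl
    obtain ⟨z, hz⟩ := IsIntegrallyClosed.isIntegral_iff.1 ((r.2 : IsIntegral B (r : T)).tower_top (A := W'))
    rw [show algebraMap Bt T r = (r : T) from rfl, ← hz]
    exact z.2
  have hfin : (EtRam.inclOfComap W' (algebraMap M T)).Finite := by
    letI : Algebra (W'.comap (algebraMap M T)) W' := (EtRam.inclOfComap W' (algebraMap M T)).toAlgebra
    letI : Algebra B (W'.comap (algebraMap M T)) :=
      (RingHom.codRestrict ((algebraMap L M).comp (algebraMap B L)) (W'.comap (algebraMap M T)) hW.1).toAlgebra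
    show Module.Finite (W'.comap (algebraMap M T)) W'
    obtain ⟨s, hs⟩ := Module.Finite.fg_top (R := B) (M := Bt)
    let ι : Bt → W' := fun r => ⟨algebraMap Bt T r, hBtW r⟩
    refine ⟨⟨s.image ι, eq_top_iff.2 fun x _ => ?_⟩⟩
    obtain ⟨ϖ, hϖ⟩ := IsDiscreteValuationRing.exists_irreducible B
    obtain ⟨r, d, hd, hrd⟩ := exists_frac_of_mem W' hBtW (t := algebraMap B Bt ϖ)
      (by rw [← IsScalarTower.algebraMap_apply]; exact hdom.2 ϖ ((mem_maximalIdeal _).2 hϖ.1))
      (fun h => hϖ.ne_zero ((RingHom.injective _).comp (IsFractionRing.injective B L) (by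
        rw [Function.comp_apply, Function.comp_apply, map_zero, map_zero]
        have := congrArg Subtype.val h
        exact this : (algebraMap L T ∘ algebraMap B L) ϖ = (algebraMap L T ∘ algebraMap B L) 0))) x.2
    obtain ⟨q, hq⟩ : ∃ q, p ^ e = q + 1 := ⟨p ^ e - 1, (Nat.sub_add_cancel (pow_pos (expChar_pos K₃ p) e)).symm⟩
    obtain ⟨m, hm⟩ := hpowT (algebraMap Bt T d)
    have hmv : W'.valuation (algebraMap M T m) = 1 := by rw [hm, map_pow, hd, one_pow]
    have hm0 : algebraMap M T m ≠ 0 := fun h => by rw [h, map_zero] at hmv; exact zero_ne_one hmv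
    have hinv : m⁻¹ ∈ W'.comap (algebraMap M T) := by
      show algebraMap M T m⁻¹ ∈ W'
      rw [← W'.valuation_le_one_iff, map_inv₀, map_inv₀, hmv, inv_one]
    have hsum : ∀ y : Bt, ι y ∈ Submodule.span (W'.comap (algebraMap M T)) (s.image ι : Set W') := fun y => by
      have hy : y ∈ Submodule.span B (s : Set Bt) := hs ▸ Submodule.mem_top
      induction hy using Submodule.span_induction with
      | mem z hz => exact Submodule.subset_span (Finset.mem_coe.2 (Finset.mem_image_of_mem ι hz))
      | zero => convert Submodule.zero_mem _; exact Subtype.ext (map_zero _)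
      | add a b _ _ ha hb => convert Submodule.add_mem _ ha hb using 1; exact Subtype.ext (map_add _ _ _)
      | smul c a _ ha =>
        convert Submodule.smul_mem _ (algebraMap B (W'.comap (algebraMap M T)) c) ha using 1
        refine Subtype.ext ?_
        show algebraMap Bt T (c • a) = algebraMap L T (algebraMap B L c) * algebraMap Bt T a
        rw [Algebra.smul_def, map_mul, ← IsScalarTower.algebraMap_apply]
        rfl
    convert Submodule.smul_mem _ (⟨m⁻¹, hinv⟩ : W'.comap (algebraMap M T)) (hsum (r * d ^ q)) using 1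
    refine Subtype.ext ?_
    show (x : T) = algebraMap M T m⁻¹ * algebraMap Bt T (r * d ^ q)
    rw [map_inv₀, map_mul, map_pow, ← hrd, eq_inv_mul_iff_mul_eq₀ hm0, hm, hq, pow_succ]
    ring
  haveI : IsNoetherianRing W' := by
    haveI : IsDiscreteValuationRing (W'.comap (algebraMap M T)) := EtRam46.isDVR_of_finite L hW
    letI : Algebra (W'.comap (algebraMap M T)) W' := (EtRam.inclOfComap W' (algebraMap M T)).toAlgebra
    haveI : Module.Finite (W'.comap (algebraMap M T)) W' := hfin
    exact IsNoetherianRing.of_finite (W'.comap (algebraMap M T)) W'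
  refine descend_formallySmooth (K₃ := K₃) (K₂ := K₂) W' ?_ p e hpowT hfin hsol.1 hsol.2
  have hcomp : (Algebra.TensorProduct.productMap (IsScalarTower.toAlgHom K₃ K₂ T) (IsScalarTower.toAlgHom K₃ M T)) =
      (Algebra.TensorProduct.comm K₃ K₂ M).toAlgHom := Algebra.TensorProduct.ext' fun y m => by
    show algebraMap K₂ T y * algebraMap M T m = m ⊗ₜ y
    rw [RingHom.algebraMap_toAlgebra]
    simp [T, Algebra.TensorProduct.algebraMap_apply]
  rw [hcomp]
  exact (Algebra.TensorProduct.comm K₃ K₂ M).injective

theorem solution_of_purelyInseparable (A B K L : Type u) [CommRing A] [IsDomain A] [IsDiscreteValuationRing A]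
    [CommRing B] [IsDomain B] [IsDiscreteValuationRing B] [Algebra A B] [IsLocalHom (algebraMap A B)]
    (hinj : Function.Injective (algebraMap A B))
    [Field K] [Field L] [Algebra A K] [IsFractionRing A K] [Algebra B L] [IsFractionRing B L]
    [Algebra K L] [Algebra A L] [IsScalarTower A K L] [IsScalarTower A B L] [Algebra.IsSeparable K L] (hB : CAlg.IsNagata B)
    (K₂ : Type u) [Field K₂] [Algebra K K₂] [FiniteDimensional K K₂] (h₂ : EtRam.IsSolution B K L K₂) :
    EtRam.IsSolution B K L (separableClosure K K₂) := by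
  exact solution_of_tower A B K L hinj hB K₂ h₂ (separableClosure K K₂)

end Groth.Agent.EtRam93
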