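import Groth.Agent.EtRam93.Amalgam
import Mathlib

/-!
# Solutions go down a tower of extensions of discrete valuation rings
-/

set_option autoImplicit false
set_option linter.style.haveILetI false

universe u

open TensorProduct IsLocalRing

namespace Groth.Agent.EtRam93

section

variable {K₁ M M' : Type u} [Field K₁] [Field M] [Field M'] (f : K₁ →+* M) (g : M →+* M')

theorem weaklyUnramified_comap (W' : ValuationSubring M')
    (h : letI : Algebra (W'.comap (g.comp f)) W' := (EtRam.inclOfComap W' (g.comp f)).toAlgebra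
      EtRam.IsWeaklyUnramified (W'.comap (g.comp f)) W') :
    letI : Algebra ((W'.comap g).comap f) (W'.comap g) := (EtRam.inclOfComap (W'.comap g) f).toAlgebra
    EtRam.IsWeaklyUnramified ((W'.comap g).comap f) (W'.comap g) := by
  letI : Algebra ((W'.comap g).comap f) (W'.comap g) := (EtRam.inclOfComap (W'.comap g) f).toAlgebra
  letI : Algebra (W'.comap (g.comp f)) W' := (EtRam.inclOfComap W' (g.comp f)).toAlgebra
  have h : (maximalIdeal (W'.comap (g.comp f))).map (EtRam.inclOfComap W' (g.comp f)) = maximalIdeal W' := h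
  show (maximalIdeal ((W'.comap g).comap f)).map (EtRam.inclOfComap (W'.comap g) f) = maximalIdeal (W'.comap g)
  refine le_antisymm ?_ fun x hx => ?_
  · refine Ideal.map_le_iff_le_comap.2 fun a ha => ?_
    rw [Ideal.mem_comap, mem_maximalIdeal, mem_nonunits_iff]
    exact fun hu => (mem_maximalIdeal _).1 ha (IsLocalHom.map_nonunit a hu)
  have hxM : (⟨g x, x.2⟩ : W') ∈ maximalIdeal W' := by
    rw [mem_maximalIdeal, mem_nonunits_iff]
    intro hu
    obtain ⟨u, hu⟩ := hu
    refine (mem_maximalIdeal _).1 hx ?_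
    have hmul : g x * ((u⁻¹ : W'ˣ) : M') = 1 := by
      have h1 := congrArg Subtype.val u.mul_inv
      rw [hu] at h1
      exact h1
    have hx0 : (x : M) ≠ 0 := fun h0 => by rw [h0, map_zero, zero_mul] at hmul; exact zero_ne_one hmul
    have hinv : (x : M)⁻¹ ∈ W'.comap g := by
      show g (x : M)⁻¹ ∈ W'
      rw [map_inv₀, ← eq_inv_of_mul_eq_one_right hmul]
      exact (u⁻¹ : W'ˣ).val.2
    exact IsUnit.of_mul_eq_one (⟨_, hinv⟩ : W'.comap g) (Subtype.ext (mul_inv_cancel₀ hx0))
  rw [← h] at hxM
  have key : ∀ r ∈ (maximalIdeal (W'.comap (g.comp f))).map (EtRam.inclOfComap W' (g.comp f)),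
      ∃ a ∈ maximalIdeal (W'.comap (g.comp f)), W'.valuation (r : M') ≤ W'.valuation (g (f (a : K₁))) := by
    intro r hr
    induction hr using Submodule.span_induction with
    | mem y hy => obtain ⟨a, ha, rfl⟩ := hy; exact ⟨a, ha, le_rfl⟩
    | zero => exact ⟨0, zero_mem _, by simp⟩
    | add y z _ _ hy hz =>
      obtain ⟨a, ha, hya⟩ := hy
      obtain ⟨b, hb, hzb⟩ := hz
      rcases le_total (W'.valuation (g (f (a : K₁)))) (W'.valuation (g (f (b : K₁)))) with hab | hab
      · exact ⟨b, hb, (Valuation.map_add _ _ _).trans (max_le (hya.trans hab) hzb)⟩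
      · exact ⟨a, ha, (Valuation.map_add _ _ _).trans (max_le hya (hzb.trans hab))⟩
    | smul c y _ hy =>
      obtain ⟨a, ha, hya⟩ := hy
      refine ⟨a, ha, ?_⟩
      rw [smul_eq_mul]
      show W'.valuation ((c : M') * (y : M')) ≤ _
      rw [map_mul]
      exact (mul_le_of_le_one_left' (W'.valuation_le_one c)).trans hya
  obtain ⟨a, ha, hxa⟩ := key _ hxM
  by_cases ha0 : g (f (a : K₁)) = 0
  · have hx0 : (x : M) = 0 := g.injective (by
      rw [map_zero]
      exact (map_eq_zero (W'.valuation)).1 (le_zero_iff.1 (hxa.trans (by rw [ha0, map_zero]))))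
    rw [show x = 0 from Subtype.ext hx0]
    exact zero_mem _
  have hq : (x : M) / f (a : K₁) ∈ W'.comap g := by
    show g _ ∈ W'
    rw [← W'.valuation_le_one_iff, map_div₀, map_div₀]
    exact (div_le_one₀ (zero_lt_iff.2 ((Valuation.ne_zero_iff _).2 ha0))).2 hxa
  have hxeq : x = (⟨_, hq⟩ : W'.comap g) * EtRam.inclOfComap (W'.comap g) f a := Subtype.ext (by
    show (x : M) = (x : M) / f (a : K₁) * f (a : K₁)
    rw [div_mul_cancel₀]
    exact fun h0 => ha0 (by rw [h0, map_zero]))
  rw [hxeq]
  exact Ideal.mul_mem_left _ _ (Ideal.mem_map_of_mem _ ha)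

theorem geomReduced_comap (W' : ValuationSubring M')
    (h : @Algebra.IsGeometricallyReduced (ResidueField (W'.comap (g.comp f))) (ResidueField W') _ _
      (ResidueField.map (EtRam.inclOfComap W' (g.comp f))).toAlgebra) :
    @Algebra.IsGeometricallyReduced (ResidueField ((W'.comap g).comap f)) (ResidueField (W'.comap g)) _ _
      (ResidueField.map (EtRam.inclOfComap (W'.comap g) f)).toAlgebra := by
  letI : Algebra (ResidueField ((W'.comap g).comap f)) (ResidueField W') :=
    (ResidueField.map (EtRam.inclOfComap W' (g.comp f))).toAlgebra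
  letI : Algebra (ResidueField ((W'.comap g).comap f)) (ResidueField (W'.comap g)) :=
    (ResidueField.map (EtRam.inclOfComap (W'.comap g) f)).toAlgebra
  let ψ : ResidueField (W'.comap g) →ₐ[ResidueField ((W'.comap g).comap f)] ResidueField W' :=
    { toRingHom := ResidueField.map (EtRam.inclOfComap W' g)
      commutes' := fun r => by
        obtain ⟨r, rfl⟩ := residue_surjective r
        rfl }
  haveI : Algebra.IsGeometricallyReduced (ResidueField ((W'.comap g).comap f)) (ResidueField W') := h
  exact Algebra.IsGeometricallyReduced.of_injective ψ ψ.toRingHom.injective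

end

theorem forallLocalExt_down {B C K L M₀ K₁ : Type u} [CommRing B] [IsDomain B] [IsDiscreteValuationRing B]
    [CommRing C] [IsDomain C] [IsDiscreteValuationRing C] [Algebra B C] [IsLocalHom (algebraMap B C)]
    (hinj : Function.Injective (algebraMap B C))
    [Field K] [Field L] [Field M₀] [Field K₁] [Algebra K L] [Algebra K M₀] [Algebra L M₀] [IsScalarTower K L M₀]
    [Algebra K K₁] [FiniteDimensional K K₁]
    [Algebra B L] [IsFractionRing B L] [Algebra C M₀] [IsFractionRing C M₀] [Algebra B M₀]
    [IsScalarTower B C M₀] [IsScalarTower B L M₀]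
    (P Q : ∀ (M : Type u) [Field M], ValuationSubring M → (K₁ →+* M) → Prop)
    (hPQ : ∀ (M M' : Type u) [Field M] [Field M'] (g : M →+* M') (W' : ValuationSubring M') (f : K₁ →+* M),
      P M' W' (g.comp f) → Q M (W'.comap g) f)
    (hP : EtRam.ForallLocalExt C K M₀ K₁ P) : EtRam.ForallLocalExt B K L K₁ Q := by
  intro M _ _ _ _ _ _ hgen W hW
  obtain ⟨M', _, g, h, W', hcomm, hWg, hdom, htop⟩ := exists_amalgam (C := C) (M₀ := M₀) hinj W hW
  subst hWg
  letI : Algebra K M' := (g.comp (algebraMap K M)).toAlgebra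
  letI : Algebra M₀ M' := h.toAlgebra
  letI : Algebra K₁ M' := (g.comp (algebraMap K₁ M)).toAlgebra
  haveI : IsScalarTower K M₀ M' := IsScalarTower.of_algebraMap_eq fun k => by
    show g (algebraMap K M k) = h (algebraMap K M₀ k)
    rw [IsScalarTower.algebraMap_apply K L M, IsScalarTower.algebraMap_apply K L M₀]
    exact RingHom.congr_fun hcomm _
  haveI : IsScalarTower K K₁ M' := IsScalarTower.of_algebraMap_eq fun k => by
    show g (algebraMap K M k) = g (algebraMap K₁ M (algebraMap K K₁ k))
    rw [← IsScalarTower.algebraMap_apply]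
  refine hPQ M M' g W' _ (hP M' ?_ W' hdom)
  set S : Set M' := Set.range (algebraMap K₁ M')
  have halg : ∀ x ∈ S, IsAlgebraic M₀ x := by
    rintro _ ⟨x, rfl⟩
    exact (IsAlgebraic.algHom (IsScalarTower.toAlgHom K K₁ M')
      (Algebra.IsAlgebraic.isAlgebraic (R := K) x)).extendScalars (algebraMap K M₀).injective
  rw [← IntermediateField.adjoin_toSubalgebra_of_isAlgebraic halg]
  refine eq_top_iff.2 fun z _ => ?_
  let N := IntermediateField.adjoin M₀ S
  have hgN : ∀ m, g m ∈ N := fun m => by
    have hm : m ∈ Algebra.adjoin L (Set.range (algebraMap K₁ M)) := hgen ▸ Algebra.mem_top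
    induction hm using Algebra.adjoin_induction with
    | mem x hx => obtain ⟨x, rfl⟩ := hx; exact IntermediateField.subset_adjoin M₀ S ⟨x, rfl⟩
    | algebraMap l =>
      rw [show g (algebraMap L M l) = algebraMap M₀ M' (algebraMap L M₀ l) from RingHom.congr_fun hcomm l]
      exact N.algebraMap_mem _
    | add x y _ _ hx hy => rw [map_add]; exact add_mem hx hy
    | mul x y _ _ hx hy => rw [map_mul]; exact mul_mem hx hy
  have hle : Subfield.closure (Set.range g ∪ Set.range h) ≤ N.toSubfield :=
    Subfield.closure_le.2 (Set.union_subset (by rintro _ ⟨m, rfl⟩; exact hgN m)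
      (by rintro _ ⟨m, rfl⟩; exact N.algebraMap_mem m))
  exact hle (htop ▸ Subfield.mem_top z)

end Groth.Agent.EtRam93
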